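import Cfsg.Agent.Lib.EPPO.Basic
import Cfsg.Agent.Lib.Layer.Radical
import Cfsg.Agent.Lib.SL2.Exist
import Cfsg.Agent.Lib.BrauerTuan.Identify
import Cfsg.Agent.S3992
import Cfsg.Agent.Lib.Steiner.Plane
import Cfsg.Agent.Lib.Classical.A8Subgroups
import Cfsg.Prelude.Def_LieExceptional
import Cfsg.Prelude.Def_Exceptional

/-!
# Element orders powers of `2` or primes other than `5`: `L_2(7)`

The classification of the simple groups whose involution centralizers are `2`-groups is a hypothesis.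
-/

set_option autoImplicit false
set_option linter.style.haveILetI false
set_option linter.unusedSectionVars false

namespace CfsgLib.EPPO

open CfsgLib.PrimePower Matrix
open scoped MatrixGroups

universe u v

/-- The classification of simple CIT-groups. -/
def CITList : Prop :=
  ∀ (M : Type u) [Group M] [Finite M] [IsSimpleGroup M], (∃ a b : M, a * b ≠ b * a) →
    (∀ t : M, orderOf t = 2 → IsPGroup 2 (Subgroup.centralizer ({t} : Set M))) →
    (∃ (F : Type) (_ : Field F) (_ : Fintype F),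
        (Fintype.card F = 9 ∨ (∃ n : ℕ, Fintype.card F = 2 ^ n) ∨
          ((Fintype.card F).Prime ∧ ∃ k : ℕ, Fintype.card F = 2 ^ k + 1 ∨ Fintype.card F + 1 = 2 ^ k)) ∧
        Nonempty (M ≃* Matrix.ProjectiveSpecialLinearGroup (Fin 2) F)) ∨
    (∃ (F : Type) (_ : Field F) (_ : Fintype F), Fintype.card F = 4 ∧
        Nonempty (M ≃* Matrix.ProjectiveSpecialLinearGroup (Fin 3) F)) ∨
    Cfsg.IsSuzuki M

/-- Every element order is a power of `2` or a prime other than `5`. -/
def Ords (G : Type u) [Group G] : Prop :=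
  ∀ g : G, g ≠ 1 → (∃ k : ℕ, orderOf g = 2 ^ k) ∨ ((orderOf g).Prime ∧ orderOf g ≠ 5)

variable {G : Type u} [Group G] [Finite G]

theorem Ords.isPP (h : Ords G) : IsPP G := by
  intro g hg
  rcases h g hg with ⟨k, hk⟩ | ⟨hp, -⟩
  · rw [hk]
    have hk0 : k ≠ 0 := fun e => hg (orderOf_eq_one_iff.1 (by rw [hk, e, pow_zero]))
    exact (Nat.prime_two.isPrimePow).pow hk0
  · exact hp.isPrimePow

theorem Ords.not_dvd_five (h : Ords G) (g : G) : ¬ 5 ∣ orderOf g := by
  intro hd
  have hg : g ≠ 1 := fun e => by rw [e, orderOf_one] at hd; norm_num at hd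
  rcases h g hg with ⟨k, hk⟩ | ⟨hp, h5⟩
  · rw [hk] at hd
    exact absurd ((Nat.prime_dvd_prime_iff_eq (by norm_num) Nat.prime_two).1
      ((by norm_num : Nat.Prime 5).dvd_of_dvd_pow hd)) (by norm_num)
  · exact h5 ((Nat.prime_dvd_prime_iff_eq (by norm_num) hp).1 hd).symm

theorem Ords.not_dvd_composite (h : Ords G) {n : ℕ} (h3 : 3 ∣ n) (hn : ¬ n.Prime) (g : G) :
    ¬ n ∣ orderOf g := by
  intro hd
  have h3g : 3 ∣ orderOf g := h3.trans hd
  have hg : g ≠ 1 := fun e => by rw [e, orderOf_one] at h3g; norm_num at h3g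
  rcases h g hg with ⟨k, hk⟩ | ⟨hp, -⟩
  · rw [hk] at h3g
    exact absurd ((Nat.prime_dvd_prime_iff_eq Nat.prime_three Nat.prime_two).1
      (Nat.prime_three.dvd_of_dvd_pow h3g)) (by norm_num)
  · rcases (Nat.dvd_prime hp).1 hd with e | e
    · rw [e] at h3; norm_num at h3
    · exact hn (e ▸ hp)

theorem card_psl_seven {F : Type v} [Field F] [Finite F] (hF : Nat.card F = 7) :
    Nat.card (ProjectiveSpecialLinearGroup (Fin 2) F) = 168 := by
  have h := CfsgLib.SL2.card_PSL (F := F)
  rw [hF] at h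
  norm_num at h
  omega

/-- Two commuting involutions of `PSL(2, 7)`. -/
theorem exists_commuting_involutions :
    ∃ x y : ProjectiveSpecialLinearGroup (Fin 2) (ZMod 7),
      orderOf x = 2 ∧ orderOf y = 2 ∧ x ≠ y ∧ x * y = y * x := by
  let j : SL(2, ZMod 7) := ⟨!![0, -1; 1, 0], by simp [Matrix.det_fin_two]⟩
  let a : SL(2, ZMod 7) := ⟨!![2, 3; 3, -2], by simp [Matrix.det_fin_two]; decide⟩
  have hc : ∀ s : SL(2, ZMod 7), CfsgLib.SL2.proj s = 1 → s = 1 ∨ s = -1 := fun s hs =>
    CfsgLib.SL2.eq_one_or_eq_neg_one_of_mem_center s ((QuotientGroup.eq_one_iff s).1 hs)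
  have hn : CfsgLib.SL2.proj (-1 : SL(2, ZMod 7)) = 1 :=
    (QuotientGroup.eq_one_iff _).2 CfsgLib.SL2.neg_one_mem_center
  have hj : j * j = -1 := by decide
  have ha : a * a = -1 := by decide
  have hja : j * a = -1 * (a * j) := by decide
  have hne : ∀ s : SL(2, ZMod 7), (s : Matrix (Fin 2) (Fin 2) (ZMod 7)) 1 0 ≠ 0 →
      CfsgLib.SL2.proj s ≠ 1 := fun s hs e => hs (by
    rcases hc s e with rfl | rfl
    · decide
    · decide)
  refine ⟨CfsgLib.SL2.proj j, CfsgLib.SL2.proj a, ?_, ?_, fun e => ?_, ?_⟩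
  · exact orderOf_eq_prime (by rw [pow_two, ← map_mul, hj, hn]) (hne j (by decide))
  · exact orderOf_eq_prime (by rw [pow_two, ← map_mul, ha, hn]) (hne a (by decide))
  · exact hne (j⁻¹ * a) (by decide) (by rw [map_mul, map_inv, e, inv_mul_cancel])
  · rw [← map_mul, hja, map_mul, hn, one_mul, map_mul]

theorem pow_two_mod_three (k : ℕ) : (Even k → 2 ^ k % 3 = 1) ∧ (Odd k → 2 ^ k % 3 = 2) := by
  induction k with
  | zero => simp
  | succ k ih =>
    rw [pow_succ, Nat.mul_mod]
    refine ⟨fun h => ?_, fun h => ?_⟩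
    · rw [ih.2 (Nat.not_even_iff_odd.1 (Nat.even_add_one.1 h))]
    · rw [ih.1 (by rcases Nat.even_or_odd k with e | e; · exact e
                   exact absurd h (Nat.not_odd_iff_even.2 (Odd.add_one e)))]

theorem five_dvd_sq_add_one (m : ℕ) : 5 ∣ (2 ^ (2 * m + 1)) ^ 2 + 1 := by
  have h := Odd.nat_add_dvd_pow_add_pow 4 1 (⟨m, rfl⟩ : Odd (2 * m + 1))
  rw [one_pow] at h
  rw [← pow_mul, mul_comm (2 * m + 1) 2, pow_mul]
  exact h

/-- The orders `(q ± 1) / (2, q - 1)` exclude all candidates but `q = 7`. -/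
theorem not_list {q : ℕ} {P : ℕ → Prop} (hP : ∀ n, n ∣ (q - 1) / Nat.gcd 2 (q - 1) ∨
      n ∣ (q + 1) / Nat.gcd 2 (q - 1) → P n)
    (hcomp : ∀ n, 3 ∣ n → ¬ n.Prime → ¬ P n) {N : ℕ}
    (hcard : Nat.gcd 2 (q - 1) * N = q * ((q - 1) * (q + 1))) (h5 : ¬ 5 ∣ N)
    (hF : q = 9 ∨ (∃ n : ℕ, q = 2 ^ n) ∨ (q.Prime ∧ ∃ k : ℕ, q = 2 ^ k + 1 ∨ q + 1 = 2 ^ k))
    (hq4 : 4 ≤ q) (h7 : q ≠ 7) : False := by
  have hbad : ∀ n, 3 ∣ n → 3 < n → ¬ P n := fun n h3 hlt => hcomp n h3 fun hp =>
    absurd ((Nat.prime_dvd_prime_iff_eq Nat.prime_three hp).1 h3) (by omega)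
  have h5q : 5 ∣ q * ((q - 1) * (q + 1)) → False := fun h => by
    rw [← hcard] at h
    rcases (Nat.Prime.dvd_mul (by norm_num : Nat.Prime 5)).1 h with e | e
    · have := Nat.le_of_dvd (Nat.gcd_pos_of_pos_left _ two_pos) e
      have := Nat.gcd_le_left (q - 1) (show 0 < 2 by norm_num)
      omega
    · exact h5 e
  rcases hF with rfl | ⟨n, rfl⟩ | ⟨hp, k, hk⟩
  · exact h5q (by norm_num)
  · have hn : 2 ≤ n := by
      by_contra h
      interval_cases n <;> omega
    have heven : (2 ^ n - 1) % 2 = 1 := by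
      have : 2 ^ n % 2 = 0 := by rw [Nat.pow_mod]; simp [Nat.zero_pow (show 0 < n by omega)]
      omega
    have hg : Nat.gcd 2 (2 ^ n - 1) = 1 := by
      rw [Nat.gcd_rec, heven, Nat.gcd_one_left]
    rcases Nat.even_or_odd n with ⟨j, rfl⟩ | ho
    · refine h5q (dvd_mul_of_dvd_right ?_ _)
      have hd : 15 ∣ 16 ^ j - 1 := by simpa using Nat.sub_dvd_pow_sub_pow 16 1 j
      have he : (2 ^ (j + j) - 1) * (2 ^ (j + j) + 1) = 16 ^ j - 1 := by
        rw [mul_comm, ← Nat.sq_sub_sq, one_pow, ← pow_mul, show (j + j) * 2 = 4 * j by ring, pow_mul]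
        norm_num
      rw [he]
      exact (by norm_num : (5 : ℕ) ∣ 15).trans hd
    · refine hbad (2 ^ n + 1) ?_ ?_ (hP _ (Or.inr (by rw [hg, Nat.div_one])))
      · have := (pow_two_mod_three n).2 ho
        omega
      · have : 2 ^ 2 ≤ 2 ^ n := Nat.pow_le_pow_right two_pos hn
        omega
  · have hodd : q % 2 = 1 := hp.odd_of_ne_two (by omega) |> Nat.odd_iff.1
    have hg : Nat.gcd 2 (q - 1) = 2 := Nat.gcd_eq_left (by omega)
    have h3 : q % 3 ≠ 0 := fun h => by
      have := (Nat.prime_dvd_prime_iff_eq Nat.prime_three hp).1 (Nat.dvd_of_mod_eq_zero h)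
      omega
    obtain ⟨hev, hod⟩ := pow_two_mod_three k
    rcases hk with hk | hk
    · have hke : Even k := by
        rcases Nat.even_or_odd k with e | e
        · exact e
        · have := hod e; omega
      obtain ⟨i, rfl⟩ := hke
      rcases Nat.lt_or_ge i 2 with h | h
      · interval_cases i
        · omega
        · norm_num at hk; subst hk; exact h5q (by norm_num)
      · have h2 : 2 ^ (i + i) = 2 * 2 ^ (2 * (i - 1) + 1) := by
          rw [← pow_succ']; congr 1; omega
        have h3' := (pow_two_mod_three (2 * (i - 1) + 1)).2 ⟨i - 1, rfl⟩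
        have h8 : 2 ^ 3 ≤ 2 ^ (2 * (i - 1) + 1) := Nat.pow_le_pow_right two_pos (by omega)
        exact hbad (2 ^ (2 * (i - 1) + 1) + 1) (by omega) (by omega)
          (hP _ (Or.inr (by rw [hg, show q + 1 = 2 * (2 ^ (2 * (i - 1) + 1) + 1) by omega,
            Nat.mul_div_cancel_left _ two_pos])))
    · have hko : Odd k := by
        rcases Nat.even_or_odd k with e | e
        · have := hev e; omega
        · exact e
      obtain ⟨i, rfl⟩ := hko
      rcases Nat.lt_or_ge i 2 with h | h
      · interval_cases i <;> norm_num at hk <;> omega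
      · have h2 : 2 ^ (2 * i + 1) = 2 * 2 ^ (2 * i) := by rw [pow_succ']
        have h3' := (pow_two_mod_three (2 * i)).1 ⟨i, by ring⟩
        have h8 : 2 ^ 4 ≤ 2 ^ (2 * i) := Nat.pow_le_pow_right two_pos (by omega)
        rw [h2] at hk
        have hq' : q - 1 = 2 * (2 ^ (2 * i) - 1) := by omega
        have h3'' : 3 ∣ 2 ^ (2 * i) - 1 := by omega
        have hlt : 3 < 2 ^ (2 * i) - 1 := by omega
        exact hbad (2 ^ (2 * i) - 1) h3'' hlt
          (hP _ (Or.inl (by rw [hg, hq', Nat.mul_div_cancel_left _ two_pos])))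

/-- The simple groups among such groups. -/
theorem simple_case (hcit : CITList.{u}) {M : Type u} [Group M] [Finite M] [IsSimpleGroup M]
    (hab : ¬ IsMulCommutative M) (hpp : IsPP M) (h5 : ∀ x : M, orderOf x ≠ 5)
    (hcomp : ∀ n, 3 ∣ n → ¬ n.Prime → ∀ x : M, orderOf x ≠ n) :
    Nonempty (M ≃* ProjectiveSpecialLinearGroup (Fin 2) (ZMod 7)) := by
  haveI : Fact (Nat.Prime 2) := ⟨Nat.prime_two⟩
  haveI : Fact (Nat.Prime 7) := ⟨by norm_num⟩
  have hne : ∃ a b : M, a * b ≠ b * a := by
    by_contra hall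
    push Not at hall
    exact hab ⟨⟨hall⟩⟩
  have h5' : ¬ 5 ∣ Nat.card M := fun h => by
    haveI : Fact (Nat.Prime 5) := ⟨by norm_num⟩
    obtain ⟨x, hx⟩ := exists_prime_orderOf_dvd_card' 5 h
    exact h5 x hx
  rcases hcit M hne (fun t ht => hpp.isPGroup_of_centralizes ht fun c hc =>
      Subgroup.mem_centralizer_singleton_iff.1 hc) with
    ⟨F, iF, fF, hF, ⟨e⟩⟩ | ⟨F, iF, fF, hF, ⟨e⟩⟩ | ⟨-, m, hm, hcard⟩
  · letI := iF
    letI := fF
    set q := Fintype.card F with hq
    have hq4 : 4 ≤ Nat.card F := by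
      rw [← Fintype.card_eq_nat_card]
      by_contra hlt
      have hq1 := Fintype.one_lt_card (α := F)
      haveI : Group.IsSolvable (ProjectiveSpecialLinearGroup (Fin 2) F) := by
        refine CfsgLib.AEightSub.isSolvable_of_card_lt ?_
        have h := CfsgLib.SL2.card_PSL (F := F)
        rw [← Fintype.card_eq_nat_card] at h
        rcases (show Fintype.card F = 2 ∨ Fintype.card F = 3 by omega) with e2 | e2 <;>
          rw [e2] at h <;> norm_num at h <;> omega
      haveI : Group.IsSolvable M :=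
        Group.isSolvable_of_surjective (f := e.symm.toMonoidHom) e.symm.surjective
      obtain ⟨a, b, hab⟩ := hne
      exact hab (IsSimpleGroup.comm_iff_isSolvable.2 inferInstance a b)
    have hord : ∀ n : ℕ, n ∣ (Nat.card F - 1) / CfsgLib.SL2.dd F ∨
        n ∣ (Nat.card F + 1) / CfsgLib.SL2.dd F → ∃ x : M, orderOf x = n := fun n hn => by
      obtain ⟨c, hc⟩ := CfsgLib.SL2.exists_orderOf_of_dvd hq4 hn
      exact ⟨e.symm c, by rw [MulEquiv.orderOf_eq, hc]⟩
    simp only [CfsgLib.SL2.dd, ← Fintype.card_eq_nat_card, ← hq] at hord hq4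
    by_cases h7 : q = 7
    · obtain ⟨e'⟩ := CfsgLib.BrauerTuan.psl_congr (F := F) (K := ZMod 7) (by rw [ZMod.card]; exact h7)
      exact ⟨e.trans e'⟩
    · exfalso
      have hcardM : Nat.gcd 2 (q - 1) * Nat.card M = q * ((q - 1) * (q + 1)) := by
        rw [Nat.card_congr e.toEquiv, hq, Fintype.card_eq_nat_card]
        exact CfsgLib.SL2.card_PSL
      exact not_list (P := fun n => ∃ x : M, orderOf x = n) hord
        (fun n h3 hn ⟨x, hx⟩ => hcomp n h3 hn x hx) hcardM h5' hF hq4 h7
  · letI := iF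
    letI := fF
    refine absurd ?_ h5'
    rw [Nat.card_congr e.toEquiv, CfsgLib.Steiner.natCard_PSL34 F hF]
    norm_num
  · refine absurd ?_ h5'
    rw [hcard]
    exact dvd_mul_of_dvd_left (dvd_mul_of_dvd_right (five_dvd_sq_add_one m) _) _

/-- An element order of a section divides an element order. -/
theorem exists_dvd_of_quotient {R : Subgroup G} [R.Normal] {M : Subgroup (G ⧸ R)} (x : M) :
    ∃ g : G, orderOf x ∣ orderOf g := by
  obtain ⟨g, hg⟩ := QuotientGroup.mk_surjective (x : G ⧸ R)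
  exact ⟨g, by rw [← Subgroup.orderOf_coe, ← hg]; exact orderOf_map_dvd (QuotientGroup.mk' R) g⟩

/-- A group with a normal subgroup `L_2(7)` of trivial centralizer and such element orders is it. -/
theorem eq_top_of_psl_seven {B : Type u} [Group B] [Finite B] (hpp : IsPP B)
    (h6 : ∀ b : B, ¬ 6 ∣ orderOf b) {M : Subgroup B} [M.Normal] [IsSimpleGroup M]
    (hmin : ∀ N : Subgroup B, N.Normal → N ≠ ⊥ → M ≤ N)
    (e : M ≃* ProjectiveSpecialLinearGroup (Fin 2) (ZMod 7)) :
    M = ⊤ ∧ ∃ K : Subgroup B, Nat.card K = 21 ∧ Group.IsSolvable K := by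
  haveI h7 : Fact (Nat.Prime 7) := ⟨by norm_num⟩
  have hcard : Nat.card M = 168 := by
    rw [Nat.card_congr e.toEquiv, card_psl_seven (by rw [Nat.card_zmod])]
  obtain ⟨P⟩ : Nonempty (Sylow 7 M) := inferInstance
  have hPc : Nat.card (P : Subgroup M) = 7 := by
    have h := P.card_eq_multiplicity
    rw [hcard] at h
    rw [h, show (168 : ℕ) = 7 ^ 1 * 24 by norm_num, Nat.factorization_mul (by norm_num) (by norm_num),
      Finsupp.add_apply, Nat.Prime.factorization_pow h7.out,
      Nat.factorization_eq_zero_of_not_dvd (show ¬ 7 ∣ 24 by norm_num)]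
    simp
  set NM := Subgroup.normalizer ((P : Subgroup M) : Set M) with hNM
  have hn7 : Nat.card (Sylow 7 M) = 8 := by
    have h1 := card_sylow_modEq_one 7 M
    have h2 : Nat.card (Sylow 7 M) ∣ 24 := by
      have := P.card_dvd_index
      have h3 := (P : Subgroup M).card_mul_index
      rw [hPc, hcard] at h3
      rwa [show (P : Subgroup M).index = 24 by omega] at this
    have hne1 : Nat.card (Sylow 7 M) ≠ 1 := fun h => by
      haveI : Subsingleton (Sylow 7 M) := (Nat.card_eq_one_iff_unique.1 h).1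
      rcases (Sylow.normal_of_subsingleton P).eq_bot_or_eq_top with h' | h'
      · rw [h', Subgroup.card_bot] at hPc; norm_num at hPc
      · rw [h', Subgroup.card_top, hcard] at hPc; norm_num at hPc
    have hle := Nat.le_of_dvd (by norm_num) h2
    unfold Nat.ModEq at h1
    interval_cases hc : Nat.card (Sylow 7 M) <;> simp_all
  have hNMc : Nat.card NM = 21 := by
    have h := (Subgroup.normalizer (P : Set M)).card_mul_index
    rw [← P.card_eq_index_normalizer, hn7, hcard] at h
    show Nat.card (Subgroup.normalizer (P : Set M)) = 21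
    omega
  -- the action on the Sylow subgroups
  let ρ : B →* Equiv.Perm (Sylow 7 M) :=
    (MulAction.toPermHom (MulAut M) (Sylow 7 M)).comp MulAut.conjNormal
  have hρ : Function.Injective ρ := by
    rw [← MonoidHom.ker_eq_bot_iff]
    by_contra hne
    have hle := hmin _ inferInstance hne
    have hfix : ∀ m : M, m • P = P := fun m => by
      have h : MulAut.conjNormal (H := M) (m : B) • P = P := by
        have h0 := Equiv.congr_fun (MonoidHom.mem_ker.1 (hle m.2)) P
        rw [Equiv.Perm.one_apply] at h0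
        exact h0
      rw [show MulAut.conjNormal (H := M) (m : B) = MulAut.conj m from MulEquiv.ext fun x => Subtype.ext (by simp)] at h
      exact h
    haveI : Subsingleton (Sylow 7 M) := ⟨fun a b => by
      obtain ⟨m, rfl⟩ := MulAction.exists_smul_eq M P a
      obtain ⟨k, rfl⟩ := MulAction.exists_smul_eq M P b
      rw [hfix, hfix]⟩
    rw [Nat.card_of_subsingleton P] at hn7
    norm_num at hn7
  have hBdvd : Nat.card B ∣ 40320 := by
    have h := Subgroup.card_dvd_of_injective ρ hρ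
    rw [Nat.card_perm, hn7] at h
    exact h
  -- the normalizer
  set T := (P : Subgroup M).map M.subtype with hT
  have hTc : Nat.card T = 7 := by
    rw [hT, Subgroup.card_map_of_injective M.subtype_injective, hPc]
  set N := Subgroup.normalizer (T : Set B) with hN
  have hsup : N ⊔ M = ⊤ := Sylow.normalizer_sup_eq_top P
  have hTab : ∀ a ∈ T, ∀ b ∈ T, a * b = b * a := fun a ha b hb => by
    haveI : IsCyclic T := isCyclic_of_prime_card hTc
    exact congrArg Subtype.val (IsCyclic.isMulCommutative (α := T).is_comm.comm ⟨a, ha⟩ ⟨b, hb⟩)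
  obtain ⟨u, hu⟩ := exists_prime_orderOf_dvd_card' (G := T) 7 hTc.symm.dvd
  set C := Subgroup.centralizer (T : Set B) with hC
  have hC7 : IsPGroup 7 C := hpp.isPGroup_of_centralizes (z := (u : B))
    (by rw [Subgroup.orderOf_coe, hu]) fun x hx => (hx u u.2).symm
  have hCT : C = T := by
    refine (Subgroup.eq_of_le_of_card_ge (show T ≤ C from fun a ha y hy => hTab y hy a ha) ?_).symm
    obtain ⟨j, hj⟩ := IsPGroup.iff_card.1 hC7
    have hd : 7 ^ j ∣ 40320 := hj ▸ (Subgroup.card_subgroup_dvd_card C).trans hBdvd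
    have hj1 : j ≤ 1 := by
      by_contra h
      exact absurd ((pow_dvd_pow 7 (show 2 ≤ j by omega)).trans hd) (by norm_num)
    rw [hTc, hj]
    calc 7 ^ j ≤ 7 ^ 1 := Nat.pow_le_pow_right (by norm_num) hj1
      _ = 7 := pow_one 7
  let ψ : N →* MulAut T := T.normalizerMonoidHom
  have hker : Nat.card ψ.ker = 7 := by
    have hk : ψ.ker = C.subgroupOf N := T.normalizerMonoidHom_ker
    rw [hk, hCT]
    exact (Nat.card_congr (Subgroup.subgroupOfEquivOfLe Subgroup.le_normalizer).toEquiv).trans hTc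
  haveI : IsCyclic T := isCyclic_of_prime_card hTc
  have hcyc : IsCyclic (MulAut T) := by
    have e' := IsCyclic.mulAutMulEquiv T
    rw [hTc] at e'
    exact isCyclic_of_surjective e'.symm e'.symm.surjective
  have hrd : Nat.card ψ.range ∣ 6 := by
    have h := Subgroup.card_subgroup_dvd_card ψ.range
    rwa [IsCyclic.card_mulAut, hTc, Nat.totient_prime h7.out] at h
  have hNc : Nat.card N = 7 * Nat.card ψ.range := by
    rw [← hker, ← Subgroup.index_ker, Subgroup.card_mul_index]
  have hmem : NM.map M.subtype ≤ N := by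
    rintro _ ⟨n, hn, rfl⟩
    refine Subgroup.mem_normalizer_iff.2 fun y => ⟨?_, ?_⟩
    · rintro ⟨p, hp, rfl⟩
      exact ⟨n * p * n⁻¹, (Subgroup.mem_normalizer_iff.1 hn p).1 hp, rfl⟩
    · rintro ⟨p, hp, he⟩
      have hy : y = (M.subtype (n⁻¹ * p * n) : B) := by
        rw [map_mul, map_mul, map_inv, he]; group
      refine hy ▸ ⟨n⁻¹ * p * n, ?_, rfl⟩
      have := (Subgroup.mem_normalizer_iff.1 (NM.inv_mem hn) p).1 hp
      rwa [inv_inv] at this
  have hNMc' : Nat.card (NM.map M.subtype) = 21 := by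
    rw [Subgroup.card_map_of_injective M.subtype_injective, hNMc]
  have hr3 : Nat.card ψ.range = 3 := by
    have hd := hNMc' ▸ Subgroup.card_dvd_of_le hmem
    rw [hNc] at hd
    have h3 : 3 ∣ Nat.card ψ.range := Nat.dvd_of_mul_dvd_mul_left (by norm_num) (show 7 * 3 ∣ _ from hd)
    rcases (Nat.le_of_dvd (by norm_num) hrd).lt_or_eq with hlt | he
    · interval_cases hc : Nat.card ψ.range <;> omega
    · exfalso
      haveI : IsCyclic ψ.range := inferInstance
      obtain ⟨g, hg⟩ := IsCyclic.exists_generator (α := ψ.range)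
      obtain ⟨n, hn⟩ := g.2
      refine h6 (n : B) ?_
      rw [← he, ← orderOf_eq_card_of_forall_mem_zpowers hg, ← Subgroup.orderOf_coe, ← hn,
        Subgroup.orderOf_coe]
      exact orderOf_map_dvd ψ n
  have hNM' : NM.map M.subtype = N := Subgroup.eq_of_le_of_card_ge hmem
    (by rw [hNMc', hNc, hr3])
  refine ⟨top_le_iff.1 (hsup ▸ sup_le (hNM' ▸ Subgroup.map_subtype_le _) le_rfl), N,
    by rw [hNc, hr3], ?_⟩
  haveI : IsCyclic (N ⧸ ψ.ker) :=
    isCyclic_of_surjective (QuotientGroup.quotientKerEquivRange ψ).symm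
      (QuotientGroup.quotientKerEquivRange ψ).symm.surjective
  haveI : IsCyclic ψ.ker := isCyclic_of_prime_card hker
  exact (Group.isSolvable_iff_subgroup_quotient ψ.ker).2
    ⟨Group.isSolvable_of_comm IsCyclic.isMulCommutative.is_comm.comm,
      Group.isSolvable_of_comm IsCyclic.isMulCommutative.is_comm.comm⟩

theorem main (hcit : CITList.{u}) (h : Ords G) (h3 : 3 ≤ (Nat.card G).primeFactors.card)
    {F : Type v} [Field F] [Fintype F] (hF : Fintype.card F = 7) :
    Nonempty (G ≃* ProjectiveSpecialLinearGroup (Fin 2) F) := by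
  classical
  haveI : Fact (Nat.Prime 2) := ⟨Nat.prime_two⟩
  haveI : Fact (Nat.Prime 7) := ⟨by norm_num⟩
  have hpp := h.isPP
  have hns : ¬ Group.IsSolvable G := fun hs => by
    haveI := hs
    have := card_primeFactors_le_two hpp (G := G)
    omega
  set R := Cfsg.solvableRadical G with hRdef
  haveI hRn : R.Normal := CfsgLib.Layer.solvableRadical_normal G
  have hRs : Group.IsSolvable R := CfsgLib.Layer.solvableRadical_isSolvable
  obtain ⟨⟨p, hp, hRp⟩, ⟨M, hMn, hMs, hMab, hmin⟩, -⟩ :=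
    Cfsg.Agent.S3992.result hns hpp R hRs fun N hn hs => CfsgLib.Layer.le_solvableRadical hn hs
  haveI := hMn
  haveI := hMs
  haveI := Fact.mk hp
  have hMpp : IsPP M := fun x hx => by
    have := hpp.quotient R (x : G ⧸ R) (fun e => hx (Subtype.ext e))
    rwa [Subgroup.orderOf_coe] at this
  obtain ⟨e⟩ := simple_case hcit hMab hMpp
    (fun x hx => (exists_dvd_of_quotient x).elim fun g hg => h.not_dvd_five g (hx ▸ hg))
    (fun n h3 hn x hx => (exists_dvd_of_quotient x).elim fun g hg =>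
      h.not_dvd_composite h3 hn g (hx ▸ hg))
  obtain ⟨hMtop, N, hN, hNs⟩ := eq_top_of_psl_seven (hpp.quotient R)
    (fun b hb => by
      obtain ⟨g, rfl⟩ := QuotientGroup.mk_surjective b
      exact h.not_dvd_composite (n := 6) (by norm_num) (by norm_num) g
        (hb.trans (orderOf_map_dvd (QuotientGroup.mk' R) g))) hmin e
  have eQ : (G ⧸ R) ≃* ProjectiveSpecialLinearGroup (Fin 2) (ZMod 7) :=
    (Subgroup.topEquiv.symm.trans (MulEquiv.subgroupCongr hMtop.symm)).trans e
  obtain ⟨e7⟩ := CfsgLib.BrauerTuan.psl_congr (F := ZMod 7) (K := F) (by rw [ZMod.card, hF])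
  suffices hR : R = ⊥ by
    exact ⟨((QuotientGroup.quotientBot).symm.trans
      (QuotientGroup.quotientMulEquivOfEq hR.symm)).trans (eQ.trans e7)⟩
  by_contra hR1
  set π := QuotientGroup.mk' R
  set V := (Subgroup.center ↥R).map R.subtype with hV
  haveI : IsMulCommutative ↥V := ⟨⟨fun u v => Subtype.ext (by
    obtain ⟨a, ha, ea⟩ := u.2
    show (u : G) * v = v * u
    obtain ⟨b, -, eb⟩ := v.2
    rw [← ea, ← eb]
    exact congrArg Subtype.val (Subgroup.mem_center_iff.mp ha b).symm)⟩⟩
  haveI : V.Normal := ConjAct.normal_of_characteristic_of_normal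
  have hV1 : V ≠ ⊥ := by
    haveI : Nontrivial ↥R := (Subgroup.nontrivial_iff_ne_bot R).mpr hR1
    haveI := hRp.center_nontrivial
    intro e'
    exact (Subgroup.nontrivial_iff_ne_bot _).mp inferInstance
      ((Subgroup.map_eq_bot_iff_of_injective _ R.subtype_injective).mp e')
  have hVp : IsPGroup p V := (hRp.to_subgroup _).map _
  have hVN : ∀ A : Subgroup G, A ≤ Subgroup.normalizer (V : Set G) := fun A => by
    rw [Subgroup.normalizer_eq_top_iff.mpr inferInstance]; exact le_top
  obtain ⟨a, ha⟩ := IsPGroup.iff_card.1 hRp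
  by_cases hp2 : p = 2
  · subst hp2
    set H := N.comap π with hH
    have hHc : Nat.card H = 2 ^ a * 21 := by
      have h1 := Subgroup.index_comap_of_surjective (H := N) (f := π) (QuotientGroup.mk'_surjective R)
      have h2 := H.card_mul_index
      have h3 := N.card_mul_index
      have h4 := R.card_mul_index
      rw [← hH] at h1
      rw [hN] at h3
      rw [R.index_eq_card] at h4
      rw [h1, ← h4, ha, ← h3, ← mul_assoc] at h2
      exact Nat.eq_of_mul_eq_mul_right (Nat.pos_of_ne_zero N.index_ne_zero_of_finite) h2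
    haveI : Group.IsSolvable H := by
      haveI := hNs
      let φ : H →* N := (π.comp H.subtype).codRestrict N fun x => x.2
      haveI : Group.IsSolvable R := hRs
      exact Group.isSolvable_of_ker_le_range (Subgroup.inclusion
        (fun r hr => show π r ∈ N by rw [show π r = 1 from (QuotientGroup.eq_one_iff r).2 hr]; exact N.one_mem : R ≤ H)) φ
        fun x hx => ⟨⟨x, (QuotientGroup.eq_one_iff (x : G)).1 (congrArg Subtype.val (MonoidHom.mem_ker.1 hx))⟩,
          Subtype.ext rfl⟩
    obtain ⟨K, hK⟩ := CfsgLib.Hall.exists_hall (m := 21) (n := 2 ^ a) (G := H)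
      (hHc.trans (mul_comm _ _)) (Nat.Coprime.pow_right _ (by norm_num))
    set A := K.map H.subtype
    have hA : Nat.card A = 21 := by rw [Subgroup.card_map_of_injective H.subtype_injective, hK]
    haveI : Group.IsSolvable A :=
      Group.isSolvable_of_surjective (f := (H.subtype.subgroupMap K)) (H.subtype.subgroupMap_surjective K)
    obtain ⟨q, hq, hAq⟩ := isPGroup_of_fpf hpp hV1 (hVN A)
      (fpf_of_coprime hpp hVp (by rw [hA]; norm_num)) inferInstance
    haveI := Fact.mk hq
    obtain ⟨j, hj⟩ := IsPGroup.iff_card.1 hAq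
    rw [hA] at hj
    have e3 := (Nat.prime_dvd_prime_iff_eq Nat.prime_three hq).1
      (Nat.prime_three.dvd_of_dvd_pow (hj ▸ (by norm_num : 3 ∣ 21)))
    have e4 := (Nat.prime_dvd_prime_iff_eq (by norm_num : Nat.Prime 7) hq).1
      ((by norm_num : Nat.Prime 7).dvd_of_dvd_pow (hj ▸ (by norm_num : 7 ∣ 21)))
    omega
  · obtain ⟨x, y, hx, hy, hxy, hc⟩ := exists_commuting_involutions
    set x' := eQ.symm x
    set y' := eQ.symm y
    have hxo : orderOf x' = 2 := by rw [MulEquiv.orderOf_eq, hx]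
    have hyo : orderOf y' = 2 := by rw [MulEquiv.orderOf_eq, hy]
    have hc' : x' * y' = y' * x' := by rw [← map_mul, hc, map_mul]
    set W := Subgroup.zpowers x' ⊔ Subgroup.zpowers y'
    have hxn : Subgroup.zpowers x' ≤ Subgroup.normalizer (Subgroup.zpowers y' : Set (G ⧸ R)) :=
      Subgroup.zpowers_le.2 (Subgroup.centralizer_le_normalizer _ (Subgroup.mem_centralizer_iff.mpr
        fun z hz => by
          obtain ⟨i, rfl⟩ := Subgroup.mem_zpowers_iff.mp hz
          exact ((show Commute x' y' from hc').symm.zpow_left i).eq))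
    have hW : IsPGroup 2 W :=
      (IsPGroup.of_card (n := 1) (by rw [Nat.card_zpowers, hxo, pow_one])).to_sup_of_normal_right'
        (IsPGroup.of_card (n := 1) (by rw [Nat.card_zpowers, hyo, pow_one])) hxn
    obtain ⟨Q, hQ⟩ := hW.exists_le_sylow
    obtain ⟨T, rfl⟩ := Sylow.mapSurjective_surjective (QuotientGroup.mk'_surjective R) 2 Q
    obtain ⟨a', ha', hax⟩ := hQ (Subgroup.mem_sup_left (Subgroup.mem_zpowers x'))
    obtain ⟨b', hb', hby⟩ := hQ (Subgroup.mem_sup_right (Subgroup.mem_zpowers y'))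
    have hpT : ¬ p ∣ Nat.card (T : Subgroup G) := fun hd => by
      obtain ⟨j, hj⟩ := IsPGroup.iff_card.1 T.2
      exact hp2 ((Nat.prime_dvd_prime_iff_eq hp Nat.prime_two).1 (hp.dvd_of_dvd_pow (hj ▸ hd)))
    have hinj : ∀ g ∈ (T : Subgroup G), π g = 1 → g = 1 := fun g hg h1 => by
      have hgR := (QuotientGroup.eq_one_iff g).1 h1
      have hd1 := R.orderOf_dvd_natCard hgR
      have hd2 := (T : Subgroup G).orderOf_dvd_natCard hg
      rw [ha] at hd1
      exact orderOf_eq_one_iff.1 (Nat.eq_one_of_dvd_coprimes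
        (Nat.Coprime.pow_left _ (hp.coprime_iff_not_dvd.2 hpT)) hd1 hd2)
    have hord : ∀ g ∈ (T : Subgroup G), orderOf (π g) = 2 → orderOf g = 2 := fun g hg hg2 => by
      refine orderOf_eq_prime (hinj _ ((T : Subgroup G).pow_mem hg 2) ?_) fun e' => ?_
      · rw [map_pow, ← hg2, pow_orderOf_eq_one]
      · rw [e', map_one, orderOf_one] at hg2; norm_num at hg2
    have hao := hord a' ha' (hax ▸ hxo)
    have hbo := hord b' hb' (hby ▸ hyo)
    have hab' : a' * b' = b' * a' := by
      refine mul_inv_eq_one.1 (hinj _ (mul_mem (mul_mem ha' hb') (inv_mem (mul_mem hb' ha'))) ?_)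
      rw [map_mul, map_inv, map_mul, map_mul, hax, hby, hc', mul_inv_cancel]
    have := (CfsgLib.FrobCompl.mem_zpowers_or_commute Nat.prime_two Nat.prime_two hV1 (hVN _)
      (fpf_of_coprime hpp hVp hpT) ha' hb' hao hbo
      (Subgroup.centralizer_le_normalizer _ (Subgroup.mem_centralizer_iff.mpr fun z hz => by
        obtain ⟨i, rfl⟩ := Subgroup.mem_zpowers_iff.mp hz
        exact ((show Commute a' b' from hab').symm.zpow_left i).eq))).1 rfl
    obtain ⟨i, hi⟩ := Subgroup.mem_zpowers_iff.1 this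
    rw [← zpow_mod_orderOf, hbo] at hi
    rcases Int.emod_two_eq_zero_or_one i with e' | e' <;> rw [Nat.cast_ofNat, e'] at hi
    · rw [zpow_zero] at hi; rw [← hi, orderOf_one] at hao; norm_num at hao
    · rw [zpow_one] at hi
      exact hxy (eQ.symm.injective (hax.symm.trans ((congrArg π hi.symm).trans hby)))

end CfsgLib.EPPO
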