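import Cfsg.Agent.Lib.EPPO.Arith
import Cfsg.Agent.Lib.EPPO.Seven
import Cfsg.Agent.Lib.SL2.Solvable
import Cfsg.Agent.Lib.Suzuki.Tori
import Cfsg.Agent.Lib.Suzuki.LieEquiv
import Cfsg.Agent.Lib.Suzuki.Symp
import Cfsg.Agent.S0254
import Cfsg.Agent.S0494
import Cfsg.Prelude.Def_Sz

/-!
# The simple groups in which every element has prime power order

The classification of the simple groups whose involution centralizers are `2`-groups is a hypothesis.
-/

set_option autoImplicit false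
set_option linter.style.haveILetI false
set_option linter.unusedSectionVars false

namespace CfsgLib.EPPO

open CfsgLib.PrimePower Matrix
open scoped MatrixGroups

universe u v

/-- The classification of simple CIT-groups up to isomorphism. -/
def CITIsoList : Prop :=
  ∀ (M : Type u) [Group M] [Finite M] [IsSimpleGroup M], (∃ a b : M, a * b ≠ b * a) →
    (∀ t : M, orderOf t = 2 → IsPGroup 2 (Subgroup.centralizer ({t} : Set M))) →
    (∃ (F : Type) (_ : Field F) (_ : Fintype F),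
        (Fintype.card F = 9 ∨ (∃ n : ℕ, Fintype.card F = 2 ^ n) ∨
          ((Fintype.card F).Prime ∧ ∃ k : ℕ, Fintype.card F = 2 ^ k + 1 ∨ Fintype.card F + 1 = 2 ^ k)) ∧
        Nonempty (M ≃* Matrix.ProjectiveSpecialLinearGroup (Fin 2) F)) ∨
    (∃ (F : Type) (_ : Field F) (_ : Fintype F), Fintype.card F = 4 ∧
        Nonempty (M ≃* Matrix.ProjectiveSpecialLinearGroup (Fin 3) F)) ∨
    Cfsg.Lie.IsoSuzuki M

/-- The groups in the conclusion. -/
def SimpleList (G : Type u) [Group G] : Prop :=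
  Nonempty (G ≃* alternatingGroup (Fin 6)) ∨
    (∃ (F : Type) (_ : Field F) (_ : Fintype F), Fintype.card F ∈ ({4, 7, 8, 17} : Finset ℕ) ∧
      Nonempty (G ≃* Matrix.ProjectiveSpecialLinearGroup (Fin 2) F)) ∨
    (∃ (F : Type) (_ : Field F) (_ : Fintype F), Fintype.card F = 4 ∧
      Nonempty (G ≃* Matrix.ProjectiveSpecialLinearGroup (Fin 3) F)) ∨
    (∃ (F : Type) (_ : Field F) (_ : Fintype F),
      (Fintype.card F = 8 ∧ Nonempty (G ≃* ↥(Cfsg.Lie.Sz F 4))) ∨
        (Fintype.card F = 32 ∧ Nonempty (G ≃* ↥(Cfsg.Lie.Sz F 8))))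

theorem isPrimePow_of_exists {M : Type u} [Group M] (h : IsPP M) {n : ℕ} (hn : n ≠ 1)
    (hx : ∃ x : M, orderOf x = n) : IsPrimePow n := by
  obtain ⟨x, rfl⟩ := hx
  exact h x fun e => hn (by rw [e, orderOf_one])

/-- The projective special linear groups of degree two over fields with four and five elements. -/
theorem psl_five_iso {F : Type v} [Field F] [Fintype F] (hF : Fintype.card F = 5) :
    ∃ (K : Type) (_ : Field K) (_ : Fintype K), Fintype.card K = 4 ∧
      Nonempty (ProjectiveSpecialLinearGroup (Fin 2) F ≃* ProjectiveSpecialLinearGroup (Fin 2) K) := by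
  haveI : Fact (Nat.Prime 2) := ⟨Nat.prime_two⟩
  let K := GaloisField 2 2
  letI : Fintype K := Fintype.ofFinite K
  have hK : Fintype.card K = 4 := by
    rw [← Nat.card_eq_fintype_card, GaloisField.card 2 2 (by norm_num)]
    norm_num
  haveI := (CfsgLib.SL2.four_le_card_of_isSimple (K := F)
    (by rw [Nat.card_eq_fintype_card, hF]; norm_num)).1
  haveI := (CfsgLib.SL2.four_le_card_of_isSimple (K := K)
    (by rw [Nat.card_eq_fintype_card, hK])).1
  obtain ⟨e1⟩ := Cfsg.Agent.S0494.result (G := ProjectiveSpecialLinearGroup (Fin 2) F) (by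
    have h := CfsgLib.SL2.card_PSL (F := F)
    rw [Nat.card_eq_fintype_card (α := F), hF] at h
    norm_num at h
    omega)
  obtain ⟨e2⟩ := Cfsg.Agent.S0494.result (G := ProjectiveSpecialLinearGroup (Fin 2) K) (by
    have h := CfsgLib.SL2.card_PSL (F := K)
    rw [Nat.card_eq_fintype_card (α := K), hK] at h
    norm_num at h
    omega)
  exact ⟨K, inferInstance, inferInstance, hK, ⟨e1.trans e2.symm⟩⟩

variable {G : Type u} [Group G] [Finite G]

theorem simple_psl (hpp : IsPP G) (hne : ∃ a b : G, a * b ≠ b * a) [IsSimpleGroup G]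
    {F : Type} [Field F] [Fintype F]
    (hF : Fintype.card F = 9 ∨ (∃ n : ℕ, Fintype.card F = 2 ^ n) ∨
      ((Fintype.card F).Prime ∧ ∃ k : ℕ, Fintype.card F = 2 ^ k + 1 ∨ Fintype.card F + 1 = 2 ^ k))
    (e : G ≃* Matrix.ProjectiveSpecialLinearGroup (Fin 2) F) : SimpleList G := by
  have hq4 : 4 ≤ Nat.card F := by
    rw [← Fintype.card_eq_nat_card]
    by_contra hlt
    have hq1 := Fintype.one_lt_card (α := F)
    haveI : Group.IsSolvable (ProjectiveSpecialLinearGroup (Fin 2) F) := by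
      refine CfsgLib.AEightSub.isSolvable_of_card_lt ?_
      have h := CfsgLib.SL2.card_PSL (F := F)
      rw [← Fintype.card_eq_nat_card] at h
      rcases (show Fintype.card F = 2 ∨ Fintype.card F = 3 by omega) with e2 | e2 <;>
        rw [e2] at h <;> norm_num at h <;> omega
    haveI : Group.IsSolvable G :=
      Group.isSolvable_of_surjective (f := e.symm.toMonoidHom) e.symm.surjective
    obtain ⟨a, b, hab⟩ := hne
    exact hab (IsSimpleGroup.comm_iff_isSolvable.2 inferInstance a b)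
  have hord : ∀ n : ℕ, n ∣ (Nat.card F - 1) / CfsgLib.SL2.dd F ∨
      n ∣ (Nat.card F + 1) / CfsgLib.SL2.dd F → ∃ x : G, orderOf x = n := fun n hn => by
    obtain ⟨c, hc⟩ := CfsgLib.SL2.exists_orderOf_of_dvd hq4 hn
    exact ⟨e.symm c, by rw [MulEquiv.orderOf_eq, hc]⟩
  simp only [CfsgLib.SL2.dd, Nat.card_eq_fintype_card (α := F)] at hord hq4
  rcases hF with h9 | ⟨n, hn⟩ | ⟨hp, k, hk⟩
  · obtain ⟨e'⟩ := Cfsg.Agent.S0254.result h9
    exact Or.inl ⟨e.trans e'⟩
  · refine Or.inr (Or.inl ⟨F, inferInstance, inferInstance, ?_, ⟨e⟩⟩)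
    rw [hn] at hord hq4
    have hn2 : 2 ≤ n := by
      by_contra hlt
      interval_cases n <;> norm_num at hq4
    have h4 : 2 ^ 2 ≤ 2 ^ n := Nat.pow_le_pow_right two_pos hn2
    have hev : 2 ∣ 2 ^ n := dvd_pow_self 2 (by omega)
    have hg : Nat.gcd 2 (2 ^ n - 1) = 1 :=
      Nat.coprime_two_left.2 (Nat.odd_iff.2 (by omega))
    rw [hg, Nat.div_one, Nat.div_one] at hord
    rcases even_char hn2 (isPrimePow_of_exists hpp (by omega) (hord _ (Or.inl dvd_rfl)))
      (isPrimePow_of_exists hpp (by omega) (hord _ (Or.inr dvd_rfl))) with rfl | rfl <;>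
      simp [hn]
  · have hodd : Odd (Fintype.card F) := hp.odd_of_ne_two (by omega)
    rw [Nat.odd_iff] at hodd
    have hg : Nat.gcd 2 (Fintype.card F - 1) = 2 := Nat.gcd_eq_left (by omega)
    rw [hg] at hord
    have hpow : ∀ n, (n = (Fintype.card F - 1) / 2 ∨ n = (Fintype.card F + 1) / 2) →
        IsPrimePow n := fun n hn => by
      refine isPrimePow_of_exists hpp ?_ (hord n ?_)
      · rcases hn with rfl | rfl <;> omega
      · rcases hn with rfl | rfl
        · exact Or.inl dvd_rfl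
        · exact Or.inr dvd_rfl
    rcases odd_char hp hq4 hk hpow with h5 | h7 | h17
    · obtain ⟨K, iK, fK, hK, ⟨e'⟩⟩ := psl_five_iso h5
      letI := iK
      exact Or.inr (Or.inl ⟨K, iK, fK, by simp [hK], ⟨e.trans e'⟩⟩)
    · exact Or.inr (Or.inl ⟨F, inferInstance, inferInstance, by simp [h7], ⟨e⟩⟩)
    · exact Or.inr (Or.inl ⟨F, inferInstance, inferInstance, by simp [h17], ⟨e⟩⟩)

theorem simple_suzuki (hpp : IsPP G) (h : Cfsg.Lie.IsoSuzuki G) : SimpleList G := by
  obtain ⟨F, iF, fF, m, hm, hF, ⟨e⟩⟩ := h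
  haveI := CfsgLib.Suzuki.charP_two_of_card hF
  haveI : CfsgLib.Suzuki.Param F m := ⟨hm, hF⟩
  refine Or.inr (Or.inr (Or.inr ⟨F, iF, fF, ?_⟩))
  have hpow : ∀ j ∈ ({2 ^ (2 * m + 1) + 2 ^ (m + 1) + 1,
      2 ^ (2 * m + 1) - 2 ^ (m + 1) + 1} : Set ℕ), IsPrimePow j := by
    intro j hj
    obtain ⟨A, hA, hAc, -, -⟩ := CfsgLib.Suzuki.tori F m j hj
    obtain ⟨g, hg⟩ := IsCyclic.exists_generator (α := A)
    refine isPrimePow_of_exists hpp ?_
      ⟨e.symm (CfsgLib.Suzuki.lieEquiv F m (g : CfsgLib.Suzuki.Gp F m)), ?_⟩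
    · have hlt : 2 ^ (m + 1) < 2 ^ (2 * m + 1) := Nat.pow_lt_pow_right one_lt_two (by omega)
      have h0 : 0 < 2 ^ (m + 1) := by positivity
      generalize 2 ^ (m + 1) = r at *
      generalize 2 ^ (2 * m + 1) = q at *
      rcases hj with hj | hj
      · omega
      · rw [Set.mem_singleton_iff] at hj
        omega
    · rw [MulEquiv.orderOf_eq, MulEquiv.orderOf_eq, Subgroup.orderOf_coe,
        orderOf_eq_card_of_forall_mem_zpowers hg, hAc]
  rcases suzuki_param hm hpow with rfl | rfl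
  · exact Or.inl ⟨hF, ⟨e⟩⟩
  · exact Or.inr ⟨hF, ⟨e⟩⟩

/-- The simple groups in which every element has prime power order. -/
theorem simple_list (hcit : CITIsoList.{u}) [IsSimpleGroup G] (hab : ¬ IsMulCommutative G)
    (hpp : IsPP G) : SimpleList G := by
  haveI : Fact (Nat.Prime 2) := ⟨Nat.prime_two⟩
  have hne : ∃ a b : G, a * b ≠ b * a := by
    by_contra hall
    push Not at hall
    exact hab ⟨⟨hall⟩⟩
  rcases hcit G hne (fun t ht => hpp.isPGroup_of_centralizes ht fun c hc =>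
      Subgroup.mem_centralizer_singleton_iff.1 hc) with
    ⟨F, iF, fF, hF, ⟨e⟩⟩ | ⟨F, iF, fF, hF, ⟨e⟩⟩ | hS
  · letI := iF
    letI := fF
    exact simple_psl hpp hne hF e
  · exact Or.inr (Or.inr (Or.inl ⟨F, iF, fF, hF, ⟨e⟩⟩))
  · exact simple_suzuki hpp hS

end CfsgLib.EPPO
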