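import Mathlib

/-!
# Prime powers next to powers of two
-/

set_option autoImplicit false

namespace CfsgLib.EPPO

/-- A prime power divisible by a prime is a power of that prime. -/
theorem eq_pow_of_dvd {p x : ℕ} (hp : p.Prime) (hd : p ∣ x) (h : IsPrimePow x) :
    ∃ k, x = p ^ k := by
  obtain ⟨r, k, hr, -, rfl⟩ := h
  exact ⟨k, by rw [(Nat.prime_dvd_prime_iff_eq hp hr.nat_prime).1 (hp.dvd_of_dvd_pow hd)]⟩

theorem three_pow_mod_four (k : ℕ) : (Even k → 3 ^ k % 4 = 1) ∧ (Odd k → 3 ^ k % 4 = 3) := by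
  refine ⟨fun ⟨i, hi⟩ => ?_, fun ⟨i, hi⟩ => ?_⟩
  · subst hi
    rw [← two_mul, pow_mul, Nat.pow_mod]
    norm_num
  · subst hi
    rw [pow_succ, pow_mul, Nat.mul_mod, Nat.pow_mod]
    norm_num

/-- The solutions of `2 ^ n + 1 = 3 ^ k`. -/
theorem two_pow_add_one_eq {n k : ℕ} (h : 2 ^ n + 1 = 3 ^ k) : n = 1 ∨ n = 3 := by
  obtain ⟨hev, hod⟩ := three_pow_mod_four k
  rcases Nat.lt_or_ge n 2 with hn | hn
  · interval_cases n
    · have : 3 ^ k % 2 = 1 := by rw [Nat.pow_mod]; norm_num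
      norm_num at h
      omega
    · exact Or.inl rfl
  have h4 : 4 ∣ 2 ^ n := pow_dvd_pow 2 hn
  rcases Nat.even_or_odd k with ⟨i, hi⟩ | ho
  · subst hi
    obtain ⟨a, ha⟩ : ∃ a, 3 ^ i = a + 1 := ⟨3 ^ i - 1, (Nat.sub_add_cancel (Nat.one_le_pow _ _ three_pos)).symm⟩
    have hprod : a * (a + 2) = 2 ^ n := by
      rw [pow_add, ha] at h
      nlinarith
    obtain ⟨s, -, hs⟩ := (Nat.dvd_prime_pow Nat.prime_two).1 (Dvd.intro _ hprod)
    obtain ⟨t, -, ht⟩ := (Nat.dvd_prime_pow Nat.prime_two).1 (Dvd.intro_left _ hprod)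
    have hs2 : s ≤ 1 := by
      by_contra hs2
      have h1 : 4 ∣ a := hs ▸ pow_dvd_pow 2 (show 2 ≤ s by omega)
      have h2 : 4 ∣ a + 2 := by
        rw [ht]
        refine pow_dvd_pow 2 (show 2 ≤ t from ?_)
        by_contra ht2
        have : 2 ^ t ≤ 2 ^ 1 := Nat.pow_le_pow_right two_pos (by omega)
        have ha0 : 0 < a := by
          rcases Nat.eq_zero_or_pos a with e | e
          · rw [e, zero_mul] at hprod; exact absurd hprod.symm (pow_ne_zero _ two_ne_zero)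
          · exact e
        rcases h1 with ⟨a', ha'⟩
        omega
      omega
    have hsa : a = 1 ∨ a = 2 := by interval_cases s <;> simp_all
    rcases hsa with rfl | rfl
    · exfalso
      have : 3 ∣ 2 ^ n := ⟨1, by omega⟩
      exact absurd ((Nat.prime_dvd_prime_iff_eq Nat.prime_three Nat.prime_two).1
        (Nat.prime_three.dvd_of_dvd_pow this)) (by norm_num)
    · refine Or.inr (Nat.pow_right_injective le_rfl (show 2 ^ n = 2 ^ 3 by omega))
  · have := hod ho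
    omega

/-- The solutions of `2 ^ n = 3 ^ k + 1`. -/
theorem two_pow_eq_add_one {n k : ℕ} (h : 2 ^ n = 3 ^ k + 1) : n = 1 ∨ n = 2 := by
  obtain ⟨hev, hod⟩ := three_pow_mod_four k
  rcases Nat.lt_or_ge n 3 with hn | hn
  · interval_cases n
    · have := Nat.one_le_pow k 3 three_pos
      norm_num at h
    · exact Or.inl rfl
    · exact Or.inr rfl
  exfalso
  have h8 : 8 ∣ 2 ^ n := pow_dvd_pow 2 hn
  rcases Nat.even_or_odd k with ⟨i, hi⟩ | ⟨i, hi⟩
  · subst hi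
    have : 3 ^ (i + i) % 8 = 1 := by
      rw [← two_mul, pow_mul, Nat.pow_mod]; norm_num
    generalize 3 ^ (i + i) = x at *
    omega
  · subst hi
    have : 3 ^ (2 * i + 1) % 8 = 3 := by
      rw [pow_succ, pow_mul, Nat.mul_mod, Nat.pow_mod]; norm_num
    generalize 3 ^ (2 * i + 1) = x at *
    omega

theorem three_dvd_pow_add_one {n : ℕ} (h : Odd n) : 3 ∣ 2 ^ n + 1 := by
  simpa using h.nat_add_dvd_pow_add_pow 2 1

theorem three_dvd_pow_sub_one {n : ℕ} (h : Even n) : 3 ∣ 2 ^ n - 1 := by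
  obtain ⟨j, rfl⟩ := h
  have h4 : 3 ∣ 4 ^ j - 1 := by simpa using Nat.sub_dvd_pow_sub_pow 4 1 j
  rwa [← two_mul, pow_mul]

/-- Both neighbours of a power of two are prime powers. -/
theorem even_char {n : ℕ} (hn : 2 ≤ n) (h1 : IsPrimePow (2 ^ n - 1)) (h2 : IsPrimePow (2 ^ n + 1)) :
    n = 2 ∨ n = 3 := by
  have hpos := Nat.one_le_two_pow (n := n)
  rcases Nat.even_or_odd n with he | ho
  · obtain ⟨k, hk⟩ := eq_pow_of_dvd Nat.prime_three (three_dvd_pow_sub_one he) h1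
    rcases two_pow_eq_add_one (n := n) (k := k) (by omega) with h | h <;> omega
  · obtain ⟨k, hk⟩ := eq_pow_of_dvd Nat.prime_three (three_dvd_pow_add_one ho) h2
    rcases two_pow_add_one_eq hk with h | h <;> omega

/-- Fermat and Mersenne primes `q` with prime powers `(q ± 1) / 2`. -/
theorem odd_char {q k : ℕ} (hq : q.Prime) (h4 : 4 ≤ q) (hk : q = 2 ^ k + 1 ∨ q + 1 = 2 ^ k)
    (h : ∀ n, (n = (q - 1) / 2 ∨ n = (q + 1) / 2) → IsPrimePow n) :
    q = 5 ∨ q = 7 ∨ q = 17 := by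
  have h3 : ¬ 3 ∣ q := fun h3 => by
    have := (Nat.prime_dvd_prime_iff_eq Nat.prime_three hq).1 h3
    omega
  obtain ⟨j, rfl⟩ : ∃ j, k = j + 1 := by
    rcases k with _ | k
    · rcases hk with hk | hk <;> norm_num at hk <;> omega
    · exact ⟨k, rfl⟩
  rw [pow_succ] at hk
  rcases hk with hk | hk
  · -- Fermat
    have hjo : Odd j := by
      by_contra hje
      rw [Nat.not_odd_iff_even] at hje
      have := three_dvd_pow_add_one (Even.add_one hje)
      rw [pow_succ] at this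
      exact h3 (hk ▸ this)
    obtain ⟨i, hi⟩ := eq_pow_of_dvd Nat.prime_three (three_dvd_pow_add_one hjo)
      (h (2 ^ j + 1) (Or.inr (by omega)))
    rcases two_pow_add_one_eq hi with rfl | rfl <;> norm_num at hk <;> omega
  · -- Mersenne
    have hje : Even j := by
      by_contra hjo
      rw [Nat.not_even_iff_odd] at hjo
      have := three_dvd_pow_sub_one (Odd.add_one hjo)
      rw [pow_succ] at this
      exact h3 (by rwa [show q = 2 ^ j * 2 - 1 by omega])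
    obtain ⟨i, hi⟩ := eq_pow_of_dvd Nat.prime_three (three_dvd_pow_sub_one hje)
      (h (2 ^ j - 1) (Or.inl (by omega)))
    have := Nat.one_le_two_pow (n := j)
    rcases two_pow_eq_add_one (n := j) (k := i) (by omega) with rfl | rfl
    · norm_num at hje
    · norm_num at hk
      omega

/-- The orders of the tori of the Suzuki groups bound the parameter. -/
theorem suzuki_param {m : ℕ} (hm : 1 ≤ m)
    (h : ∀ j ∈ ({2 ^ (2 * m + 1) + 2 ^ (m + 1) + 1, 2 ^ (2 * m + 1) - 2 ^ (m + 1) + 1} : Set ℕ),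
      IsPrimePow j) : m = 1 ∨ m = 2 := by
  by_contra hne
  have hm3 : 3 ≤ m := by omega
  have hle : 2 ^ (m + 1) ≤ 2 ^ (2 * m + 1) := Nat.pow_le_pow_right two_pos (by omega)
  have hprod : (2 ^ (2 * m + 1) + 2 ^ (m + 1) + 1) * (2 ^ (2 * m + 1) - 2 ^ (m + 1) + 1) =
      (2 ^ (2 * m + 1)) ^ 2 + 1 := by
    have hsq : (2 ^ (m + 1)) ^ 2 = 2 * 2 ^ (2 * m + 1) := by
      rw [← pow_mul, ← pow_succ']; congr 1; ring
    zify [hle] at hsq ⊢
    linear_combination -hsq
  have h5 : 5 ∣ (2 ^ (2 * m + 1)) ^ 2 + 1 := by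
    have h := Odd.nat_add_dvd_pow_add_pow 4 1 (⟨m, rfl⟩ : Odd (2 * m + 1))
    rw [one_pow] at h
    rw [← pow_mul, mul_comm (2 * m + 1) 2, pow_mul]
    exact h
  obtain ⟨j, hj, h5j⟩ : ∃ j ∈ ({2 ^ (2 * m + 1) + 2 ^ (m + 1) + 1,
      2 ^ (2 * m + 1) - 2 ^ (m + 1) + 1} : Set ℕ), 5 ∣ j := by
    rw [← hprod] at h5
    rcases (Nat.Prime.dvd_mul (by norm_num : Nat.Prime 5)).1 h5 with e | e
    · exact ⟨_, Or.inl rfl, e⟩
    · exact ⟨_, Or.inr rfl, e⟩
  obtain ⟨k, hk⟩ := eq_pow_of_dvd (by norm_num) h5j (h j hj)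
  have hk1 : k ≠ 0 := by
    rintro rfl
    rw [pow_zero] at hk
    rw [hk] at h5j
    norm_num at h5j
  have hdvd : 2 ^ (m + 1) ∣ 5 ^ k - 1 := by
    rcases hj with hj | hj
    · rw [← hk, hj, Nat.add_sub_cancel]
      exact dvd_add (pow_dvd_pow 2 (by omega)) dvd_rfl
    · rw [Set.mem_singleton_iff] at hj
      rw [← hk, hj, Nat.add_sub_cancel]
      exact Nat.dvd_sub (pow_dvd_pow 2 (by omega)) dvd_rfl
  obtain ⟨i, hi⟩ : ∃ i, m = i + 1 := ⟨m - 1, by omega⟩
  have hord : 2 ^ i ∣ k := by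
    rw [← ZMod.orderOf_five i]
    refine orderOf_dvd_of_pow_eq_one ?_
    have h1 : ((5 ^ k - 1 : ℕ) : ZMod (2 ^ (i + 2))) = 0 :=
      (ZMod.natCast_eq_zero_iff _ _).2 (by rwa [hi] at hdvd)
    rw [Nat.cast_sub (Nat.one_le_pow _ _ (by norm_num)), Nat.cast_pow, Nat.cast_one] at h1
    exact_mod_cast sub_eq_zero.1 h1
  -- size
  have hkge : 2 * m - 2 ≤ k := by
    have hlt : ∀ i, 2 ≤ i → 2 * i ≤ 2 ^ i := by
      intro i hi
      induction i, hi using Nat.le_induction with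
      | base => norm_num
      | succ i hi ih => rw [pow_succ]; omega
    have := hlt i (by omega)
    have := Nat.le_of_dvd (Nat.pos_of_ne_zero hk1) hord
    omega
  have hbig : 2 ^ (2 * m + 2) < j := by
    rw [hk]
    calc 2 ^ (2 * m + 2) < 4 ^ (m + 1) + 1 := by
          rw [show 2 * m + 2 = 2 * (m + 1) by ring, pow_mul]; norm_num
      _ ≤ 5 ^ (m + 1) := Nat.pow_lt_pow_left (by norm_num) (by omega)
      _ ≤ 5 ^ k := Nat.pow_le_pow_right (by norm_num) (by omega)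
  have hjle : j ≤ 2 ^ (2 * m + 1) + 2 ^ (m + 1) + 1 := by
    rcases hj with hj | hj
    · exact hj.le
    · rw [Set.mem_singleton_iff] at hj
      rw [hj]; omega
  have : 2 ^ (m + 1) < 2 ^ (2 * m + 1) := Nat.pow_lt_pow_right one_lt_two (by omega)
  rw [show 2 * m + 2 = 2 * m + 1 + 1 by ring, pow_succ] at hbig
  omega

end CfsgLib.EPPO
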