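import Cfsg.Agent.Lib.PrimePower.Nonsolvable
import Cfsg.Agent.Lib.Hall.Basic

/-!
# Solvable groups in which every element has prime power order
-/

set_option autoImplicit false
set_option linter.style.haveILetI false
set_option linter.unusedSectionVars false

namespace CfsgLib.EPPO

open CfsgLib.PrimePower

universe u

variable {G : Type u} [Group G] [Finite G]

/-- A power of a nontrivial element has prime order dividing the order of the element. -/
theorem exists_prime_pow {g : G} (h1 : g ≠ 1) :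
    ∃ (p i : ℕ), p.Prime ∧ p ∣ orderOf g ∧ orderOf (g ^ i) = p := by
  obtain ⟨p, hp, hd⟩ := Nat.exists_prime_and_dvd (fun e => h1 (orderOf_eq_one_iff.1 e))
  exact ⟨p, _, hp, hd, orderOf_pow_orderOf_div (orderOf_pos g).ne' hd⟩

/-- A group of order prime to `p` acts fixed point freely on a `p`-group. -/
theorem fpf_of_coprime (h : IsPP G) {p : ℕ} [hp : Fact p.Prime] {V A : Subgroup G}
    (hV : IsPGroup p V) (hA : ¬ p ∣ Nat.card A) :
    ∀ e ∈ A, e ≠ 1 → V ⊓ Subgroup.centralizer {e} = ⊥ := by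
  intro e he he1
  rw [eq_bot_iff]
  rintro v ⟨hv, hc⟩
  refine Subgroup.mem_bot.2 (by_contra fun hv1 => ?_)
  obtain ⟨q, i, hq, hqd, hqo⟩ := exists_prime_pow he1
  obtain ⟨r, j, hr, hrd, hro⟩ := exists_prime_pow hv1
  have hrp : r = p := by
    obtain ⟨k, hk⟩ := IsPGroup.iff_card.1 hV
    exact (Nat.prime_dvd_prime_iff_eq hr hp.out).1 (hr.dvd_of_dvd_pow
      (hk ▸ hrd.trans (V.orderOf_dvd_natCard hv)))
  have hcomm : Commute v e := Subgroup.mem_centralizer_singleton_iff.1 hc
  have := h.eq_of_commute hr hq hro hqo (hcomm.pow_pow j i)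
  exact hA ((hrp.symm.trans this) ▸ hqd.trans (A.orderOf_dvd_natCard he))

/-- A solvable group acting fixed point freely in such a group has prime power order. -/
theorem isPGroup_of_fpf (h : IsPP G) {A V : Subgroup G} [IsMulCommutative V] (hV : V ≠ ⊥)
    (hAV : A ≤ Subgroup.normalizer (V : Set G))
    (hfpf : ∀ e ∈ A, e ≠ 1 → V ⊓ Subgroup.centralizer {e} = ⊥) (hs : Group.IsSolvable A) :
    ∃ q : ℕ, q.Prime ∧ IsPGroup q A := by
  classical
  by_cases hA : A = ⊥
  · exact ⟨2, Nat.prime_two, fun x => ⟨0, Subtype.ext (by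
      simpa using Subgroup.mem_bot.mp (hA ▸ x.2 : (x : G) ∈ (⊥ : Subgroup G)))⟩⟩
  haveI : Group.IsSolvable ↥(⊤ : Subgroup A) :=
    Group.isSolvable_of_surjective (f := (Subgroup.topEquiv (G := A)).symm.toMonoidHom)
      (Subgroup.topEquiv (G := A)).symm.surjective
  haveI : Nontrivial A := (Subgroup.nontrivial_iff_ne_bot A).2 hA
  obtain ⟨q, hq, K, hKn, -, hK1, hKq⟩ := exists_normal_pgroup (⊤ : Subgroup A) inferInstance top_ne_bot
  refine ⟨q, hq.out, IsPGroup.iff_card.2 ⟨(Nat.card A).primeFactorsList.length,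
    Nat.eq_prime_pow_of_unique_prime_dvd Nat.card_pos.ne' fun {r} hr hd => ?_⟩⟩
  haveI := Fact.mk hr
  obtain ⟨k, hk⟩ : ∃ k : K, orderOf k = q := by
    obtain ⟨n, hn⟩ := IsPGroup.iff_card.1 hKq
    refine exists_prime_orderOf_dvd_card' q (hn ▸ dvd_pow_self q fun e => hK1 ?_)
    exact Subgroup.eq_bot_of_card_eq _ (by rw [hn, e, pow_zero])
  obtain ⟨x, hx⟩ := exists_prime_orderOf_dvd_card' r hd
  set y : G := ((k : A) : G) with hy
  have hyo : orderOf y = q := by rw [hy, Subgroup.orderOf_coe, Subgroup.orderOf_coe, hk]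
  have hK' : IsPGroup q (K.map A.subtype) := hKq.map _
  have hn : (x : G) ∈ Subgroup.normalizer ((Subgroup.zpowers y : Subgroup G) : Set G) := by
    have key : ∀ a : A, (a : G) * y * (a : G)⁻¹ ∈ Subgroup.zpowers y := fun a =>
      CfsgLib.FrobCompl.mem_zpowers_of_pgroup hV hAV hfpf hK' (Subgroup.map_subtype_le _)
        ⟨a * k * a⁻¹, hKn.conj_mem k k.2 a, rfl⟩ ⟨k, k.2, rfl⟩
        (((MulAut.conj (a : G)).orderOf_eq y).trans hyo) hyo
    refine Subgroup.mem_normalizer_iff_map_conj_eq.2 ?_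
    rw [MonoidHom.map_zpowers]
    refine Subgroup.eq_of_le_of_card_ge (Subgroup.zpowers_le.2 (key x)) ?_
    rw [Nat.card_zpowers, Nat.card_zpowers]
    exact ((MulAut.conj (x : G)).orderOf_eq y).ge
  have hc := (CfsgLib.FrobCompl.mem_zpowers_or_commute hr hq.out hV hAV hfpf x.2 (k : A).2
    (by rw [Subgroup.orderOf_coe, hx]) hyo hn).2
  exact h.eq_of_commute hr hq.out (by rw [Subgroup.orderOf_coe, hx]) hyo hc

/-- An abelian group of exponent `2` and order `4` does not act fixed point freely. -/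
theorem not_fpf_four {A V : Subgroup G} [IsMulCommutative V] (hV : V ≠ ⊥)
    (hAV : A ≤ Subgroup.normalizer (V : Set G))
    (hfpf : ∀ e ∈ A, e ≠ 1 → V ⊓ Subgroup.centralizer {e} = ⊥) (hA : Nat.card A = 4)
    (hsq : ∀ a ∈ A, a * a = 1) : False := by
  haveI : IsMulCommutative A := ⟨⟨fun a b => Subtype.ext (by
    show (a : G) * b = b * a
    rw [← mul_inv_eq_one, mul_inv_rev, inv_eq_of_mul_eq_one_right (hsq _ a.2),
      inv_eq_of_mul_eq_one_right (hsq _ b.2)]
    exact hsq _ (mul_mem a.2 b.2))⟩⟩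
  obtain ⟨g, hg⟩ := (CfsgLib.FrobCompl.isCyclic_of_comm hV hAV hfpf).exists_generator
  have h2 : orderOf g ∣ 2 := orderOf_dvd_of_pow_eq_one (Subtype.ext (by
    rw [pow_two]; exact hsq _ g.2))
  rw [orderOf_eq_card_of_forall_mem_zpowers hg, hA] at h2
  exact absurd (Nat.le_of_dvd two_pos h2) (by norm_num)

/-- A solvable group all of whose elements have prime power order has at most two prime divisors. -/
theorem card_primeFactors_le_two (h : IsPP G) [Group.IsSolvable G] :
    (Nat.card G).primeFactors.card ≤ 2 := by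
  classical
  rcases subsingleton_or_nontrivial G with hG | hG
  · rw [Nat.card_of_subsingleton (1 : G)]; simp
  haveI : Group.IsSolvable ↥(⊤ : Subgroup G) :=
    Group.isSolvable_of_surjective (f := (Subgroup.topEquiv (G := G)).symm.toMonoidHom)
      (Subgroup.topEquiv (G := G)).symm.surjective
  obtain ⟨p, hp, K, hKn, -, hK1, hKp⟩ := exists_normal_pgroup (⊤ : Subgroup G) inferInstance top_ne_bot
  haveI := hKn
  set V := (Subgroup.center ↥K).map K.subtype with hV
  haveI : IsMulCommutative ↥V := ⟨⟨fun u v => Subtype.ext (by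
    obtain ⟨a, ha, ea⟩ := u.2
    show (u : G) * v = v * u
    obtain ⟨b, -, eb⟩ := v.2
    rw [← ea, ← eb]
    exact congrArg Subtype.val (Subgroup.mem_center_iff.mp ha b).symm)⟩⟩
  haveI : V.Normal := ConjAct.normal_of_characteristic_of_normal
  have hV1 : V ≠ ⊥ := by
    haveI : Nontrivial ↥K := (Subgroup.nontrivial_iff_ne_bot K).mpr hK1
    haveI := hKp.center_nontrivial
    intro e
    exact (Subgroup.nontrivial_iff_ne_bot _).mp inferInstance
      ((Subgroup.map_eq_bot_iff_of_injective _ K.subtype_injective).mp e)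
  have hVp : IsPGroup p V := (hKp.to_subgroup _).map _
  set N := Nat.card G with hN
  have hN0 : N ≠ 0 := Nat.card_pos.ne'
  obtain ⟨A, hA⟩ := CfsgLib.Hall.exists_hall (m := N / p ^ N.factorization p)
    (n := p ^ N.factorization p) (G := G)
    (by rw [Nat.div_mul_cancel (Nat.ordProj_dvd N p)])
    ((Nat.coprime_ordCompl hp.out hN0).symm.pow_right _)
  have hpA : ¬ p ∣ Nat.card A := by
    rw [hA]; exact Nat.not_dvd_ordCompl hp.out hN0
  haveI : Group.IsSolvable A := inferInstance
  obtain ⟨q, hq, hAq⟩ := isPGroup_of_fpf h hV1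
    (by rw [Subgroup.normalizer_eq_top_iff.mpr inferInstance]; exact le_top)
    (fpf_of_coprime h hVp hpA) inferInstance
  haveI := Fact.mk hq
  obtain ⟨k, hk⟩ := IsPGroup.iff_card.1 hAq
  refine le_trans (Finset.card_le_card (t := {p, q}) fun s hs => ?_) Finset.card_le_two
  rw [Nat.mem_primeFactors] at hs
  rw [Finset.mem_insert, Finset.mem_singleton]
  have hd := hs.2.1
  rw [← Nat.div_mul_cancel (Nat.ordProj_dvd N p), ← hA, hk] at hd
  rcases (Nat.Prime.dvd_mul hs.1).1 hd with e | e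
  · exact Or.inr ((Nat.prime_dvd_prime_iff_eq hs.1 hq).1 (hs.1.dvd_of_dvd_pow e))
  · exact Or.inl ((Nat.prime_dvd_prime_iff_eq hs.1 hp.out).1 (hs.1.dvd_of_dvd_pow e))

end CfsgLib.EPPO
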