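import Cfsg.Agent.Lib.EPPO.Basic
import Cfsg.Agent.Lib.ZStar.Main
import Cfsg.Agent.S0033
import Cfsg.Agent.Lib.Layer.Radical
import Cfsg.Agent.Lib.NoncyclicSelfCent.Main

/-!
# Almost simple groups in which every element has prime power order
-/

set_option autoImplicit false
set_option linter.style.haveILetI false
set_option linter.unusedSectionVars false

namespace CfsgLib.EPPO

open CfsgLib.PrimePower

universe u

variable {G : Type u} [Group G] [Finite G]

/-- Every prime divisor of the order divides the order of a non-abelian simple normal subgroup. -/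
theorem prime_dvd_simple (h : IsPP G) {M : Subgroup G} [M.Normal] [IsSimpleGroup M]
    (hab : ¬ IsMulCommutative M) {r : ℕ} (hr : r.Prime) (hd : r ∣ Nat.card G) :
    r ∣ Nat.card M := by
  by_contra hnd
  haveI := Fact.mk hr
  obtain ⟨b, hb⟩ := exists_prime_orderOf_dvd_card' r hd
  set φ : M ≃* M := MulAut.conjNormal b with hφ
  have hfix : ∀ m : M, φ m = m → m = 1 := by
    intro m hm
    by_contra hm1
    obtain ⟨q, i, hq, hqd, hqo⟩ := exists_prime_pow (g := (m : G)) (fun e => hm1 (Subtype.ext e))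
    have hc : Commute (m : G) b := by
      have h1 : b * m * b⁻¹ = m := by
        rw [← MulAut.conjNormal_apply (H := M) b m]
        exact congrArg Subtype.val hm
      exact (mul_inv_eq_iff_eq_mul.mp h1).symm
    have hqr := h.eq_of_commute hq hr hqo hb (hc.pow_left i)
    refine hnd (hqr ▸ hqd.trans ?_)
    rw [Subgroup.orderOf_coe]
    exact orderOf_dvd_natCard m
  have hord : orderOf φ = r := by
    refine orderOf_eq_prime ?_ ?_
    · rw [hφ, ← map_pow, ← hb, pow_orderOf_eq_one, map_one]
    · intro e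
      obtain ⟨m, hm⟩ := exists_ne (1 : M)
      exact hm (hfix m (by rw [e]; rfl))
  have hff : MonoidHom.FixedPointFree (φ : M →* M) := fun m hm => hfix m hm
  haveI := Cfsg.Agent.S0033.result φ hff r hr hord
  exact hab ⟨⟨IsSimpleGroup.comm_iff_isSolvable.2 inferInstance⟩⟩

/-- Conjugation restricted to a subgroup of prime order prime to its action. -/
theorem commute_of_normalizes {r s : ℕ} [hr : Fact r.Prime] [hs : Fact s.Prime] {x y : G}
    (hy : orderOf y = s) (hx : ∃ i, orderOf x = r ^ i) (hrs : ¬ r ∣ s - 1)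
    (hn : x ∈ Subgroup.normalizer ((Subgroup.zpowers y : Subgroup G) : Set G)) : Commute x y := by
  set T := Subgroup.zpowers y
  have hT : Nat.card T = s := by rw [Nat.card_zpowers, hy]
  haveI : IsCyclic T := isCyclic_of_prime_card hT
  have hone : T.normalizerMonoidHom ⟨x, hn⟩ = 1 := by
    rw [← orderOf_eq_one_iff]
    obtain ⟨i, hi⟩ := hx
    have h1 : orderOf (T.normalizerMonoidHom ⟨x, hn⟩) ∣ r ^ i := by
      refine (orderOf_map_dvd _ _).trans ?_
      rw [Subgroup.orderOf_mk, hi]
    have h2 : orderOf (T.normalizerMonoidHom ⟨x, hn⟩) ∣ s - 1 := by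
      have := orderOf_dvd_natCard (T.normalizerMonoidHom ⟨x, hn⟩)
      rwa [IsCyclic.card_mulAut, hT, Nat.totient_prime hs.out] at this
    exact Nat.eq_one_of_dvd_coprimes
      (Nat.Coprime.pow_left i (hr.out.coprime_iff_not_dvd.2 hrs)) h1 h2
  have hk : (⟨x, hn⟩ : Subgroup.normalizer (T : Set G)) ∈ T.normalizerMonoidHom.ker := hone
  rw [T.normalizerMonoidHom_ker] at hk
  exact (Subgroup.mem_centralizer_iff.1 hk y (Subgroup.mem_zpowers y)).symm

/-- A subgroup of order `r * m` with these arithmetical conditions is the whole group. -/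
theorem eq_top_of_counts (hpp : IsPP G) {M : Subgroup G} [M.Normal] [IsSimpleGroup M]
    {r s m : ℕ} [hr : Fact r.Prime] [hs : Fact s.Prime] (hM : Nat.card M = r * m) (hrm : ¬ r ∣ m)
    (hsd : s ∣ Nat.card M) (hs2 : ¬ s ^ 2 ∣ Nat.card M) (hrs : ¬ r ∣ s - 1) (hne : r ≠ s)
    (hk1 : m % r ≠ 1)
    (hk : ∀ k, k ∣ r - 1 → k ∣ m → (m / k) % r = 1 → ∀ K, K ∣ r - 1 → k ∣ K → IsPrimePow K → K = k) :
    M = ⊤ := by
  classical
  obtain ⟨P⟩ : Nonempty (Sylow r M) := inferInstance
  have hPc : Nat.card (P : Subgroup M) = r := by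
    rw [P.card_eq_multiplicity, hM, Nat.factorization_mul hr.out.ne_zero
      (fun e => hrm (by rw [e]; exact dvd_zero r)), Finsupp.add_apply, hr.out.factorization_self,
      Nat.factorization_eq_zero_of_not_dvd hrm, pow_one]
  set T := (P : Subgroup M).map M.subtype with hT
  have hTc : Nat.card T = r := by
    rw [hT, Subgroup.card_map_of_injective M.subtype_injective, hPc]
  haveI : IsCyclic T := isCyclic_of_prime_card hTc
  set N := Subgroup.normalizer (T : Set G) with hN
  have hsup : N ⊔ M = ⊤ := Sylow.normalizer_sup_eq_top P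
  set C := Subgroup.centralizer (T : Set G) with hC
  obtain ⟨u, hu⟩ := exists_prime_orderOf_dvd_card' (G := T) r hTc.symm.dvd
  have hCr : IsPGroup r C := hpp.isPGroup_of_centralizes (z := (u : G))
    (by rw [Subgroup.orderOf_coe, hu]) fun x hx => (hx u u.2).symm
  let ψ : N →* MulAut T := T.normalizerMonoidHom
  have hker : ψ.ker = C.subgroupOf N := T.normalizerMonoidHom_ker
  have hrd : Nat.card ψ.range ∣ r - 1 := by
    have h := Subgroup.card_subgroup_dvd_card ψ.range
    rwa [IsCyclic.card_mulAut, hTc, Nat.totient_prime hr.out] at h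
  -- the normalizer in `M`
  set NM := Subgroup.normalizer ((P : Subgroup M) : Set M) with hNM
  have hLN : NM.map M.subtype ≤ N := by
    rintro _ ⟨n, hn, rfl⟩
    refine Subgroup.mem_normalizer_iff.2 fun y => ⟨?_, ?_⟩
    · rintro ⟨p, hp, rfl⟩
      exact ⟨n * p * n⁻¹, (Subgroup.mem_normalizer_iff.1 hn p).1 hp, rfl⟩
    · rintro ⟨p, hp, he⟩
      have hy : y = (M.subtype (n⁻¹ * p * n) : G) := by
        rw [map_mul, map_mul, map_inv, he]; group
      refine hy ▸ ⟨n⁻¹ * p * n, ?_, rfl⟩
      have := (Subgroup.mem_normalizer_iff.1 (NM.inv_mem hn) p).1 hp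
      rwa [inv_inv] at this
  set L := (NM.map M.subtype).subgroupOf N with hL
  obtain ⟨k, hkc⟩ : ∃ k, Nat.card NM = r * k := by
    have := Subgroup.card_dvd_of_le (Subgroup.le_normalizer (H := (P : Subgroup M)))
    rw [hPc] at this
    exact this
  have hLc : Nat.card L = r * k := by
    rw [hL, Nat.card_congr (Subgroup.subgroupOfEquivOfLe hLN).toEquiv,
      Subgroup.card_map_of_injective M.subtype_injective, hkc]
  have hkm : k ∣ m := by
    have := Subgroup.card_subgroup_dvd_card NM
    rw [hkc, hM] at this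
    exact Nat.dvd_of_mul_dvd_mul_left hr.out.pos this
  have hn : Nat.card (Sylow r M) = m / k := by
    have h := NM.card_mul_index
    rw [hkc, hM, show NM.index = Nat.card (Sylow r M) from P.card_eq_index_normalizer.symm,
      mul_assoc] at h
    have h' := Nat.eq_of_mul_eq_mul_left hr.out.pos h
    rw [← h', Nat.mul_div_cancel_left _ (Nat.pos_of_ne_zero fun e => by
      rw [e, zero_mul] at h'
      exact hrm (by rw [← h']; exact dvd_zero r))]
  have hmod : (m / k) % r = 1 := by
    rw [← hn]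
    have h := card_sylow_modEq_one r M
    rw [Nat.ModEq, Nat.one_mod_eq_one.2 hr.out.ne_one] at h
    exact h
  have hk0 : k ≠ 1 := by
    rintro rfl
    rw [Nat.div_one] at hmod
    exact hk1 hmod
  -- the image of `L`
  have hLker : Nat.card (ψ.comp L.subtype).ker = r := by
    have hp : IsPGroup r (ψ.comp L.subtype).ker := by
      refine hCr.of_injective (((L.subtype.comp (ψ.comp L.subtype).ker.subtype)).codRestrict
        (C.subgroupOf N) (fun x => ?_) |> (Subgroup.subgroupOfEquivOfLe
          (show C ≤ N from Subgroup.centralizer_le_normalizer _)).toMonoidHom.comp) ?_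
      · rw [← hker]
        exact x.2
      · intro a b e
        exact Subtype.ext (Subtype.ext (congrArg (fun z : C.subgroupOf N => (z : N))
          ((Subgroup.subgroupOfEquivOfLe (show C ≤ N from Subgroup.centralizer_le_normalizer _)).injective e)))
    obtain ⟨j, hj⟩ := IsPGroup.iff_card.1 hp
    have hd : r ^ j ∣ r * m := by
      rw [← hj, ← hM]
      refine (Subgroup.card_subgroup_dvd_card _).trans ?_
      rw [hLc, ← hkc]
      exact Subgroup.card_subgroup_dvd_card NM
    have hj1 : j ≤ 1 := by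
      by_contra hj1
      have h2 : r * r ∣ r * m := by
        rw [← pow_two]
        exact (pow_dvd_pow r (show 2 ≤ j by omega)).trans hd
      exact hrm (Nat.dvd_of_mul_dvd_mul_left hr.out.pos h2)
    have hTle : (T.subgroupOf N).subgroupOf L ≤ (ψ.comp L.subtype).ker := by
      intro x hx
      show ψ (x : N) = 1
      rw [← MonoidHom.mem_ker, hker]
      intro y hy
      exact congrArg Subtype.val (IsCyclic.isMulCommutative.is_comm.comm ⟨y, hy⟩
        (⟨_, hx⟩ : T))
    have hTL : T.subgroupOf N ≤ L := fun x hx => by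
      obtain ⟨p, hp, e⟩ := hx
      exact ⟨p, Subgroup.le_normalizer hp, e⟩
    have h1 := Subgroup.card_dvd_of_le hTle
    rw [Nat.card_congr (Subgroup.subgroupOfEquivOfLe hTL).toEquiv,
      Nat.card_congr (Subgroup.subgroupOfEquivOfLe Subgroup.le_normalizer).toEquiv, hTc, hj] at h1
    interval_cases j
    · rw [pow_zero, Nat.dvd_one] at h1
      exact absurd h1 hr.out.ne_one
    · rw [hj, pow_one]
  have hLrange : Nat.card (L.map ψ) = k := by
    have h := (ψ.comp L.subtype).ker.card_mul_index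
    rw [Subgroup.index_ker, hLker, hLc, MonoidHom.range_comp, Subgroup.range_subtype] at h
    exact Nat.eq_of_mul_eq_mul_left hr.out.pos h
  have hLle : L.map ψ ≤ ψ.range := Subgroup.map_le_range ψ L
  have hkK : k ∣ Nat.card ψ.range := hLrange ▸ Subgroup.card_dvd_of_le hLle
  have hK : IsPrimePow (Nat.card ψ.range) := by
    haveI : IsCyclic (MulAut T) := by
      have e' := IsCyclic.mulAutMulEquiv T
      rw [hTc] at e'
      haveI : Fact r.Prime := hr
      exact isCyclic_of_surjective e'.symm e'.symm.surjective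
    obtain ⟨g, hg⟩ := IsCyclic.exists_generator (α := ψ.range)
    obtain ⟨n, hn⟩ := g.2
    have hgo : orderOf (ψ n) = Nat.card ψ.range := by
      rw [hn, Subgroup.orderOf_coe, orderOf_eq_card_of_forall_mem_zpowers hg]
    have hne1 : Nat.card ψ.range ≠ 1 := fun e => hk0 (Nat.dvd_one.1 (e ▸ hkK))
    have hn1 : (n : G) ≠ 1 := fun e => hne1 (by
      rw [← hgo, show n = 1 from Subtype.ext e, map_one, orderOf_one])
    refine IsPrimePow.dvd (hpp _ hn1) ?_ hne1
    rw [← hgo, Subgroup.orderOf_coe]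
    exact orderOf_map_dvd ψ n
  have hKk := hk k (hLrange ▸ (Subgroup.card_dvd_of_le hLle).trans hrd) hkm hmod _ hrd hkK hK
  have hNeq : N ≤ M ⊔ C := by
    intro n hn
    have hmem : ψ ⟨n, hn⟩ ∈ L.map ψ := by
      rw [Subgroup.eq_of_le_of_card_ge hLle (by rw [hKk, hLrange])]
      exact ⟨_, rfl⟩
    obtain ⟨l, hl, e⟩ := hmem
    have hc : l⁻¹ * ⟨n, hn⟩ ∈ ψ.ker := by
      rw [MonoidHom.mem_ker, map_mul, map_inv, e, inv_mul_cancel]
    rw [hker] at hc
    have hc' : (l : G)⁻¹ * n ∈ C := hc
    have hlM : (l : G) ∈ M := Subgroup.map_subtype_le NM hl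
    rw [← mul_inv_cancel_left (l : G) n]
    exact mul_mem (Subgroup.mem_sup_left hlM) (Subgroup.mem_sup_right hc')
  have hMC : M ⊔ C = ⊤ := top_le_iff.1 (hsup ▸ sup_le hNeq le_sup_left)
  by_contra htop
  -- a Sylow subgroup of order at least `r * r` acts freely
  obtain ⟨S⟩ : Nonempty (Sylow r G) := inferInstance
  have hrr : r * r ∣ Nat.card (S : Subgroup G) := by
    have hidx : r ∣ M.index := by
      have hq : IsPGroup r (G ⧸ M) := by
        refine hCr.of_surjective ((QuotientGroup.mk' M).comp C.subtype) fun x => ?_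
        obtain ⟨g, rfl⟩ := QuotientGroup.mk'_surjective M x
        obtain ⟨a, ha, c, hc, rfl⟩ := Subgroup.mem_sup_of_normal_left.1 (hMC ▸ Subgroup.mem_top g)
        refine ⟨⟨c, hc⟩, ?_⟩
        rw [map_mul, show QuotientGroup.mk' M a = 1 from (QuotientGroup.eq_one_iff a).2 ha, one_mul]
        rfl
      obtain ⟨j, hj⟩ := IsPGroup.iff_card.1 hq
      rcases j with _ | j
      · exact absurd (Subgroup.index_eq_one.1 (by rw [Subgroup.index_eq_card, hj, pow_zero])) htop
      · rw [Subgroup.index_eq_card, hj]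
        exact dvd_pow_self r (Nat.succ_ne_zero j)
    have hd : r ^ 2 ∣ Nat.card G := by
      rw [← M.card_mul_index, pow_two, hM]
      exact mul_dvd_mul (dvd_mul_right r m) hidx
    rw [← pow_two]
    exact S.pow_dvd_card_of_pow_dvd_card hd
  obtain ⟨Q⟩ : Nonempty (Sylow s M) := inferInstance
  let ρ : (S : Subgroup G) →* Equiv.Perm (Sylow s M) :=
    ((MulAction.toPermHom (MulAut M) (Sylow s M)).comp MulAut.conjNormal).comp
      (S : Subgroup G).subtype
  letI : MulAction (S : Subgroup G) (Sylow s M) := MulAction.compHom _ ρ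
  obtain ⟨x, ω, hx1, hxω⟩ : ∃ (x : (S : Subgroup G)) (ω : Sylow s M), x ≠ 1 ∧ x • ω = ω := by
    by_contra hc
    push Not at hc
    have hfree : ∀ ω : Sylow s M, MulAction.stabilizer (S : Subgroup G) ω = ⊥ := fun ω =>
      (Subgroup.eq_bot_iff_forall _).2 fun x hx => by_contra fun h1 => hc x ω h1 hx
    have h := Nat.card_congr (MulAction.selfEquivOrbitsQuotientProd hfree)
    rw [Nat.card_prod] at h
    have hd : r * r ∣ r * m := by
      rw [← hM]
      exact (hrr.trans (h ▸ dvd_mul_left _ _)).trans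
        (Q.card_dvd_index.trans (Subgroup.index_dvd_card _))
    exact hrm (Nat.dvd_of_mul_dvd_mul_left hr.out.pos hd)
  have hQc : Nat.card (ω : Subgroup M) = s := by
    rw [ω.card_eq_multiplicity]
    have h1 : 1 ≤ (Nat.card M).factorization s :=
      hs.out.factorization_pos_of_dvd Nat.card_pos.ne' hsd
    have h2 : (Nat.card M).factorization s < 2 := by
      by_contra hlt
      exact hs2 ((hs.out.pow_dvd_iff_le_factorization Nat.card_pos.ne').2 (by omega))
    rw [show (Nat.card M).factorization s = 1 by omega, pow_one]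
  obtain ⟨v, hv⟩ := exists_prime_orderOf_dvd_card' (G := (ω : Subgroup M)) s hQc.symm.dvd
  set y : G := ((v : M) : G) with hy
  have hyo : orderOf y = s := by rw [hy, Subgroup.orderOf_coe, Subgroup.orderOf_coe, hv]
  have hQy : (ω : Subgroup M).map M.subtype = Subgroup.zpowers y := by
    refine (Subgroup.eq_of_le_of_card_ge ?_ ?_).symm
    · rw [Subgroup.zpowers_le]
      exact ⟨v, v.2, rfl⟩
    · rw [Subgroup.card_map_of_injective M.subtype_injective, hQc, Nat.card_zpowers, hyo]
  have hn' : (x : G) ∈ Subgroup.normalizer ((Subgroup.zpowers y : Subgroup G) : Set G) := by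
    refine Subgroup.mem_normalizer_iff_map_conj_eq.2 ?_
    rw [← hQy, Subgroup.map_map]
    have hx2 : MulAut.conjNormal (H := M) (x : G) • ω = ω := hxω
    have hx3 : (ω : Subgroup M).map (MulAut.conjNormal (H := M) (x : G)).toMonoidHom = ω :=
      congrArg Sylow.toSubgroup hx2
    conv_rhs => rw [← hx3]
    rw [Subgroup.map_map]
    congr 1
  obtain ⟨i, hi⟩ := IsPGroup.iff_orderOf.1 S.2 x
  have hxy := commute_of_normalizes (r := r) hyo ⟨i, by rw [Subgroup.orderOf_coe, hi]⟩ hrs hn'
  obtain ⟨q, j, hq, hqd, hqo⟩ := exists_prime_pow (g := (x : G)) (fun e => hx1 (Subtype.ext e))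
  rw [Subgroup.orderOf_coe, hi] at hqd
  have hqr := (Nat.prime_dvd_prime_iff_eq hq hr.out).1 (hq.dvd_of_dvd_pow hqd)
  exact hne (hqr ▸ hpp.eq_of_commute hq hs.out hqo hyo (hxy.pow_left j))

/-- Two commuting independent elements of prime order different from `p` in `G / R` force the
normal `p`-subgroup `R` to be trivial. -/
theorem eq_bot_of_rank_two (hpp : IsPP G) {R : Subgroup G} [R.Normal] {p q : ℕ} [hp : Fact p.Prime]
    [hq : Fact q.Prime] (hRp : IsPGroup p R) (hpq : p ≠ q) {x y : G ⧸ R} (hx : orderOf x = q)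
    (hy : orderOf y = q) (hc : Commute x y) (hn : x ∉ Subgroup.zpowers y) : R = ⊥ := by
  classical
  by_contra hR1
  set π := QuotientGroup.mk' R
  set V := (Subgroup.center ↥R).map R.subtype with hV
  haveI : IsMulCommutative ↥V := ⟨⟨fun u v => Subtype.ext (by
    obtain ⟨a, ha, ea⟩ := u.2
    show (u : G) * v = v * u
    obtain ⟨b, -, eb⟩ := v.2
    rw [← ea, ← eb]
    exact congrArg Subtype.val (Subgroup.mem_center_iff.mp ha b).symm)⟩⟩
  haveI : V.Normal := ConjAct.normal_of_characteristic_of_normal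
  have hV1 : V ≠ ⊥ := by
    haveI : Nontrivial ↥R := (Subgroup.nontrivial_iff_ne_bot R).mpr hR1
    haveI := hRp.center_nontrivial
    intro e'
    exact (Subgroup.nontrivial_iff_ne_bot _).mp inferInstance
      ((Subgroup.map_eq_bot_iff_of_injective _ R.subtype_injective).mp e')
  have hVp : IsPGroup p V := (hRp.to_subgroup _).map _
  have hVN : ∀ A : Subgroup G, A ≤ Subgroup.normalizer (V : Set G) := fun A => by
    rw [Subgroup.normalizer_eq_top_iff.mpr inferInstance]; exact le_top
  obtain ⟨a, ha⟩ := IsPGroup.iff_card.1 hRp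
  set W := Subgroup.zpowers x ⊔ Subgroup.zpowers y
  have hxn : Subgroup.zpowers x ≤ Subgroup.normalizer (Subgroup.zpowers y : Set (G ⧸ R)) :=
    Subgroup.zpowers_le.2 (Subgroup.centralizer_le_normalizer _ (Subgroup.mem_centralizer_iff.mpr
      fun z hz => by
        obtain ⟨i, rfl⟩ := Subgroup.mem_zpowers_iff.mp hz
        exact (hc.symm.zpow_left i).eq))
  have hW : IsPGroup q W :=
    (IsPGroup.of_card (n := 1) (by rw [Nat.card_zpowers, hx, pow_one])).to_sup_of_normal_right'
      (IsPGroup.of_card (n := 1) (by rw [Nat.card_zpowers, hy, pow_one])) hxn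
  obtain ⟨Q, hQ⟩ := hW.exists_le_sylow
  obtain ⟨T, rfl⟩ := Sylow.mapSurjective_surjective (QuotientGroup.mk'_surjective R) q Q
  obtain ⟨a', ha', hax⟩ := hQ (Subgroup.mem_sup_left (Subgroup.mem_zpowers x))
  obtain ⟨b', hb', hby⟩ := hQ (Subgroup.mem_sup_right (Subgroup.mem_zpowers y))
  have hpT : ¬ p ∣ Nat.card (T : Subgroup G) := fun hd => by
    obtain ⟨j, hj⟩ := IsPGroup.iff_card.1 T.2
    exact hpq ((Nat.prime_dvd_prime_iff_eq hp.out hq.out).1 (hp.out.dvd_of_dvd_pow (hj ▸ hd)))
  have hinj : ∀ g ∈ (T : Subgroup G), π g = 1 → g = 1 := fun g hg h1 => by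
    have hgR := (QuotientGroup.eq_one_iff g).1 h1
    have hd1 := R.orderOf_dvd_natCard hgR
    have hd2 := (T : Subgroup G).orderOf_dvd_natCard hg
    rw [ha] at hd1
    exact orderOf_eq_one_iff.1 (Nat.eq_one_of_dvd_coprimes
      (Nat.Coprime.pow_left _ (hp.out.coprime_iff_not_dvd.2 hpT)) hd1 hd2)
  have hord : ∀ g ∈ (T : Subgroup G), orderOf (π g) = q → orderOf g = q := fun g hg hg2 => by
    refine orderOf_eq_prime (hinj _ ((T : Subgroup G).pow_mem hg q) ?_) fun e' => ?_
    · rw [map_pow, ← hg2, pow_orderOf_eq_one]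
    · rw [e', map_one, orderOf_one] at hg2
      exact hq.out.ne_one hg2.symm
  have hao := hord a' ha' (hax ▸ hx)
  have hbo := hord b' hb' (hby ▸ hy)
  have hab' : Commute a' b' := by
    refine mul_inv_eq_one.1 (hinj _ (mul_mem (mul_mem ha' hb') (inv_mem (mul_mem hb' ha'))) ?_)
    rw [map_mul, map_inv, map_mul, map_mul, hax, hby, hc.eq, mul_inv_cancel]
  have hmem := (CfsgLib.FrobCompl.mem_zpowers_or_commute hq.out hq.out hV1 (hVN _)
    (fpf_of_coprime hpp hVp hpT) ha' hb' hao hbo
    (Subgroup.centralizer_le_normalizer _ (Subgroup.mem_centralizer_iff.mpr fun z hz => by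
      obtain ⟨i, rfl⟩ := Subgroup.mem_zpowers_iff.mp hz
      exact (hab'.symm.zpow_left i).eq))).1 rfl
  obtain ⟨i, hi⟩ := Subgroup.mem_zpowers_iff.1 hmem
  refine hn (Subgroup.mem_zpowers_iff.2 ⟨i, ?_⟩)
  rw [← hax, ← hi, map_zpow, hby]

/-- A non-abelian simple group has two commuting involutions. -/
theorem exists_two_commuting {M : Type u} [Group M] [Finite M] [IsSimpleGroup M]
    (hab : ¬ IsMulCommutative M) :
    ∃ x y : M, orderOf x = 2 ∧ orderOf y = 2 ∧ Commute x y ∧ x ≠ y := by
  haveI : Fact (Nat.Prime 2) := ⟨Nat.prime_two⟩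
  obtain ⟨S⟩ : Nonempty (Sylow 2 M) := inferInstance
  obtain ⟨z, hzS, hzo, hzc⟩ := CfsgLib.NCSC.exists_central_invol hab S
  by_contra hc
  push Not at hc
  have hiso : ∀ g : M, g * z * g⁻¹ ∈ (S : Subgroup M) → g * z * g⁻¹ = z := fun g hg =>
    hc _ z (by rw [← MulAut.conj_apply, MulEquiv.orderOf_eq, hzo]) hzo (hzc _ hg)
  obtain ⟨N, hN, hodd, hcom⟩ := CfsgLib.ZStar.exists_normal_odd_commutator_mem S z hzo hzS hiso
  rcases hN.eq_bot_or_eq_top with h | h
  · have hzc' : z ∈ Subgroup.center M := Subgroup.mem_center_iff.mpr fun g => by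
      have := Subgroup.mem_bot.mp (h ▸ hcom g)
      exact (mul_inv_eq_iff_eq_mul.mp (mul_inv_eq_one.mp this)).symm
    rcases (inferInstance : (Subgroup.center M).Normal).eq_bot_or_eq_top with h' | h'
    · rw [h', Subgroup.mem_bot] at hzc'
      rw [hzc', orderOf_one] at hzo
      norm_num at hzo
    · exact hab ⟨⟨fun a b => ((Subgroup.mem_center_iff.mp (h' ▸ Subgroup.mem_top b)) a)⟩⟩
  · rw [h, Subgroup.card_top] at hodd
    exact Nat.not_even_iff_odd.mpr hodd (even_iff_two_dvd.mpr (hzo ▸ orderOf_dvd_natCard z))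

end CfsgLib.EPPO
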