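import Cfsg.Agent.Lib.EPPO.Simple
import Cfsg.Agent.Lib.EPPO.Extend
import Cfsg.Agent.Lib.Steiner.Plane
import Cfsg.Agent.Lib.Classical.PSLThreeFour

/-!
# Groups in which every element has prime power order have at most four prime divisors

The classification of the simple groups whose involution centralizers are `2`-groups is a hypothesis.
-/

set_option autoImplicit false
set_option linter.style.haveILetI false
set_option linter.unusedSectionVars false
set_option linter.unusedSimpArgs false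

namespace CfsgLib.EPPO

open CfsgLib.PrimePower Matrix
open scoped MatrixGroups

universe u

/-- Two commuting independent elements of order three of `PSL(3, 4)`. -/
theorem psl34_commuting_threes {F : Type*} [Field F] [Fintype F] (hF : Fintype.card F = 4) :
    ∃ x y : ProjectiveSpecialLinearGroup (Fin 3) F,
      orderOf x = 3 ∧ orderOf y = 3 ∧ Commute x y ∧ x ∉ Subgroup.zpowers y := by
  obtain ⟨w, hw⟩ := CfsgLib.Classical.PSLThreeFour.exists_w hF
  have h2 := CfsgLib.Classical.PSLThreeFour.two_eq_zero hF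
  have hw3 : w * (w * w) = 1 := by linear_combination (w + 1) * hw + w * h2
  have hw0 : w ≠ 0 := fun h => by subst h; simp at hw
  have hw1 : w ≠ 1 := fun h => by
    subst h
    rw [one_mul] at hw
    exact one_ne_zero (left_eq_add.mp hw)
  let D : SL(3, F) := ⟨!![1, 0, 0; 0, w, 0; 0, 0, w * w], by
    rw [Matrix.det_fin_three]; simp; linear_combination hw3⟩
  let P : SL(3, F) := ⟨!![0, 1, 0; 0, 0, 1; 1, 0, 0], by
    rw [Matrix.det_fin_three]; simp⟩
  let Z : SL(3, F) := ⟨!![w, 0, 0; 0, w, 0; 0, 0, w], by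
    rw [Matrix.det_fin_three]; simp; linear_combination hw3⟩
  have hZ : Z ∈ Subgroup.center SL(3, F) := by
    refine Matrix.SpecialLinearGroup.mem_center_iff.2 ⟨w, ?_, ?_⟩
    · rw [Fintype.card_fin]; linear_combination hw3
    · ext i j; fin_cases i <;> fin_cases j <;> simp [Z]
  let π := QuotientGroup.mk' (Subgroup.center SL(3, F))
  have hout : ∀ (A : SL(3, F)) (i j : Fin 3), i ≠ j →
      (A : Matrix (Fin 3) (Fin 3) F) i j ≠ 0 → π A ≠ 1 := by
    intro A i j hij hA e
    obtain ⟨r, -, hr⟩ := Matrix.SpecialLinearGroup.mem_center_iff.1 ((QuotientGroup.eq_one_iff A).1 e)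
    refine hA ?_
    rw [← hr]
    simp [hij]
  have hPP : π P * π P ≠ 1 := by
    rw [← map_mul]
    refine hout _ 0 2 (by decide) ?_
    rw [Matrix.SpecialLinearGroup.coe_mul]
    simp [P, Matrix.SpecialLinearGroup.coe_mul, Matrix.SpecialLinearGroup.coe_pow, Matrix.mul_apply, Fin.sum_univ_three]
  have hD1 : π D ≠ 1 := fun e => by
    obtain ⟨r, -, hr⟩ := Matrix.SpecialLinearGroup.mem_center_iff.1 ((QuotientGroup.eq_one_iff D).1 e)
    have h0 := congrFun (congrFun hr 0) 0
    have h1 := congrFun (congrFun hr 1) 1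
    simp [D] at h0 h1
    exact hw1 (h1.symm.trans h0)
  have hP1 : π P ≠ 1 := hout P 0 1 (by decide) (by simp [P])
  have hD3 : D ^ 3 = 1 := by
    ext i j
    rw [Matrix.SpecialLinearGroup.coe_pow]
    fin_cases i <;> fin_cases j <;>
      simp [D, pow_succ, Matrix.SpecialLinearGroup.coe_mul, Matrix.SpecialLinearGroup.coe_pow, Matrix.mul_apply, Fin.sum_univ_three] <;>
      first | linear_combination hw3 | linear_combination (w * (w * w) + 1) * hw3
  have hP3 : P ^ 3 = 1 := by
    ext i j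
    rw [Matrix.SpecialLinearGroup.coe_pow]
    fin_cases i <;> fin_cases j <;> simp [P, pow_succ, Matrix.SpecialLinearGroup.coe_mul, Matrix.SpecialLinearGroup.coe_pow, Matrix.mul_apply, Fin.sum_univ_three]
  have hPD : P * D = Z * (D * P) := by
    ext i j
    simp only [Matrix.SpecialLinearGroup.coe_mul]
    fin_cases i <;> fin_cases j <;>
      simp [D, P, Z, Matrix.SpecialLinearGroup.coe_mul, Matrix.SpecialLinearGroup.coe_pow, Matrix.mul_apply, Fin.sum_univ_three] <;> linear_combination -hw3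
  have hcomm : Commute (π D) (π P) := by
    show π D * π P = π P * π D
    rw [← map_mul π P D, hPD, map_mul π Z, show π Z = 1 from (QuotientGroup.eq_one_iff Z).2 hZ,
      one_mul, map_mul]
  have hPo : orderOf (π P) = 3 := orderOf_eq_prime (by rw [← map_pow, hP3, map_one]) hP1
  refine ⟨π D, π P, orderOf_eq_prime (by rw [← map_pow, hD3, map_one]) hD1, hPo, hcomm, ?_⟩
  intro hmem
  obtain ⟨i, hi⟩ := Subgroup.mem_zpowers_iff.1 hmem
  rw [← zpow_mod_orderOf, hPo] at hi
  have hcases : i % 3 = 0 ∨ i % 3 = 1 ∨ i % 3 = 2 := by omega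
  rcases hcases with e | e | e <;> rw [Nat.cast_ofNat, e] at hi
  · rw [zpow_zero] at hi
    exact hD1 hi.symm
  · rw [zpow_one] at hi
    have h : π (D⁻¹ * P) = 1 := by rw [map_mul, map_inv, hi, inv_mul_cancel]
    rw [show D⁻¹ = D ^ 2 from inv_eq_of_mul_eq_one_right (by rw [← pow_succ', hD3])] at h
    refine hout _ 0 1 (by decide) ?_ h
    simp only [Matrix.SpecialLinearGroup.coe_mul, Matrix.SpecialLinearGroup.coe_pow]
    simp [D, P, pow_two, Matrix.SpecialLinearGroup.coe_mul, Matrix.SpecialLinearGroup.coe_pow, Matrix.mul_apply, Fin.sum_univ_three]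
  · have hi' : π P * π P = π D := by rw [← hi, ← pow_two]; norm_cast
    have h : π (D⁻¹ * (P * P)) = 1 := by rw [map_mul, map_inv, map_mul, hi', inv_mul_cancel]
    rw [show D⁻¹ = D ^ 2 from inv_eq_of_mul_eq_one_right (by rw [← pow_succ', hD3])] at h
    refine hout _ 0 2 (by decide) ?_ h
    simp only [Matrix.SpecialLinearGroup.coe_mul, Matrix.SpecialLinearGroup.coe_pow]
    simp [D, P, pow_two, Matrix.SpecialLinearGroup.coe_mul, Matrix.SpecialLinearGroup.coe_pow, Matrix.mul_apply, Fin.sum_univ_three]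

theorem primeFactors_subset {N : ℕ} {s : Finset ℕ} (l : List (ℕ × ℕ))
    (hN : N = (l.map fun x => x.1 ^ x.2).prod) (hl : ∀ x ∈ l, x.1.Prime ∧ x.1 ∈ s) :
    N.primeFactors ⊆ s := by
  intro p hp
  obtain ⟨hp, hd, -⟩ := Nat.mem_primeFactors.1 hp
  rw [hN] at hd
  obtain ⟨b, hb, hpb⟩ := (Prime.dvd_prod_iff (Nat.prime_iff.1 hp)).1 hd
  obtain ⟨x, hx, rfl⟩ := List.mem_map.1 hb
  obtain ⟨hx1, hx2⟩ := hl x hx
  rwa [(Nat.prime_dvd_prime_iff_eq hp hx1).1 (hp.dvd_of_dvd_pow hpb)]

/-- The prime divisors of the groups in the list. -/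
theorem simpleList_cases {M : Type u} [Group M] [Finite M] (h : SimpleList M) :
    ((Nat.card M).primeFactors.card ≤ 3) ∨
    ((Nat.card M).primeFactors.card ≤ 4 ∧
      ((∃ (F : Type) (_ : Field F) (_ : Fintype F), Fintype.card F = 4 ∧
        Nonempty (M ≃* Matrix.ProjectiveSpecialLinearGroup (Fin 3) F) ∧ Nat.card M = 20160) ∨
      (∃ (F : Type) (_ : Field F) (_ : Fintype F),
        (Fintype.card F = 8 ∧ Nonempty (M ≃* ↥(Cfsg.Lie.Sz F 4)) ∧ Nat.card M = 29120) ∨
        (Fintype.card F = 32 ∧ Nonempty (M ≃* ↥(Cfsg.Lie.Sz F 8)) ∧ Nat.card M = 32537600)))) := by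
  rcases h with ⟨⟨e⟩⟩ | ⟨F, iF, fF, hF, ⟨e⟩⟩ | ⟨F, iF, fF, hF, ⟨e⟩⟩ | ⟨F, iF, fF, hS⟩
  · refine Or.inl ((Finset.card_le_card (primeFactors_subset (s := {2, 3, 5})
      [(2, 3), (3, 2), (5, 1)] ?_ (by norm_num))).trans Finset.card_le_three)
    rw [Nat.card_congr e.toEquiv, nat_card_alternatingGroup, Nat.card_fin]
    rfl
  · letI := iF
    letI := fF
    have hc := CfsgLib.SL2.card_PSL (F := F)
    rw [Nat.card_eq_fintype_card (α := F), ← Nat.card_congr e.toEquiv] at hc
    simp only [Finset.mem_insert, Finset.mem_singleton] at hF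
    left
    rcases hF with hq | hq | hq | hq <;> rw [hq] at hc <;> norm_num at hc
    · exact (Finset.card_le_card (primeFactors_subset (s := {2, 3, 5})
        [(2, 2), (3, 1), (5, 1)] (by norm_num; omega) (by norm_num))).trans Finset.card_le_three
    · exact (Finset.card_le_card (primeFactors_subset (s := {2, 3, 7})
        [(2, 3), (3, 1), (7, 1)] (by norm_num; omega) (by norm_num))).trans Finset.card_le_three
    · exact (Finset.card_le_card (primeFactors_subset (s := {2, 3, 7})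
        [(2, 3), (3, 2), (7, 1)] (by norm_num; omega) (by norm_num))).trans Finset.card_le_three
    · exact (Finset.card_le_card (primeFactors_subset (s := {2, 3, 17})
        [(2, 4), (3, 2), (17, 1)] (by norm_num; omega) (by norm_num))).trans Finset.card_le_three
  · letI := iF
    letI := fF
    have hc : Nat.card M = 20160 := by
      rw [Nat.card_congr e.toEquiv, CfsgLib.Steiner.natCard_PSL34 F hF]
    refine Or.inr ⟨(Finset.card_le_card (primeFactors_subset (s := {2, 3, 5, 7})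
      [(2, 6), (3, 2), (5, 1), (7, 1)] (by rw [hc]; norm_num) (by norm_num))).trans
      Finset.card_le_four, Or.inl ⟨F, iF, fF, hF, ⟨e⟩, hc⟩⟩
  · letI := iF
    letI := fF
    rcases hS with ⟨hF, ⟨e⟩⟩ | ⟨hF, ⟨e⟩⟩
    · haveI := CfsgLib.Suzuki.charP_two_of_card (k := 2 * 1 + 1) hF
      haveI : CfsgLib.Suzuki.Param F 1 := ⟨le_rfl, hF⟩
      have hc : Nat.card M = 29120 := by
        rw [Nat.card_congr e.toEquiv, ← Nat.card_congr (show CfsgLib.Suzuki.Gp F 1 ≃* ↥(Cfsg.Lie.Sz F 4) from CfsgLib.Suzuki.lieEquiv F 1).toEquiv,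
          CfsgLib.Suzuki.natCard_group, hF]
        norm_num
      refine Or.inr ⟨(Finset.card_le_card (primeFactors_subset (s := {2, 5, 7, 13})
        [(2, 6), (5, 1), (7, 1), (13, 1)] (by rw [hc]; norm_num) (by norm_num))).trans
        Finset.card_le_four, Or.inr ⟨F, iF, fF, Or.inl ⟨hF, ⟨e⟩, hc⟩⟩⟩
    · haveI := CfsgLib.Suzuki.charP_two_of_card (k := 2 * 2 + 1) hF
      haveI : CfsgLib.Suzuki.Param F 2 := ⟨by norm_num, hF⟩
      have hc : Nat.card M = 32537600 := by
        rw [Nat.card_congr e.toEquiv, ← Nat.card_congr (show CfsgLib.Suzuki.Gp F 2 ≃* ↥(Cfsg.Lie.Sz F 8) from CfsgLib.Suzuki.lieEquiv F 2).toEquiv,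
          CfsgLib.Suzuki.natCard_group, hF]
        norm_num
      refine Or.inr ⟨(Finset.card_le_card (primeFactors_subset (s := {2, 5, 31, 41})
        [(2, 10), (5, 2), (31, 1), (41, 1)] (by rw [hc]; norm_num) (by norm_num))).trans
        Finset.card_le_four, Or.inr ⟨F, iF, fF, Or.inr ⟨hF, ⟨e⟩, hc⟩⟩⟩

theorem hk_seven : ∀ k, k ∣ 7 - 1 → k ∣ 2880 → (2880 / k) % 7 = 1 → ∀ K, K ∣ 7 - 1 → k ∣ K →
    IsPrimePow K → K = k := by
  intro k h1 h2 h3 K hK hkK hKp
  have hkk : k = 3 := by
    have := Nat.le_of_dvd (by norm_num) h1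
    interval_cases k <;> norm_num at *
  subst hkk
  have := Nat.le_of_dvd (by norm_num) hK
  interval_cases K <;> norm_num at *
  exact absurd hKp (by rw [isPrimePow_nat_iff_bounded]; decide)

theorem hk_thirteen : ∀ k, k ∣ 13 - 1 → k ∣ 2240 → (2240 / k) % 13 = 1 → ∀ K, K ∣ 13 - 1 → k ∣ K →
    IsPrimePow K → K = k := by
  intro k h1 h2 h3 K hK hkK hKp
  have hkk : k = 4 := by
    have := Nat.le_of_dvd (by norm_num) h1
    interval_cases k <;> norm_num at *
  subst hkk
  have := Nat.le_of_dvd (by norm_num) hK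
  interval_cases K <;> norm_num at *
  exact absurd hKp (by rw [isPrimePow_nat_iff_bounded]; decide)

theorem hk_thirtyone : ∀ k, k ∣ 31 - 1 → k ∣ 1049600 → (1049600 / k) % 31 = 1 → ∀ K, K ∣ 31 - 1 →
    k ∣ K → IsPrimePow K → K = k := by
  intro k h1 h2 h3 K hK hkK hKp
  have hkk : k = 2 := by
    have := Nat.le_of_dvd (by norm_num) h1
    interval_cases k <;> norm_num at *
  subst hkk
  have := Nat.le_of_dvd (by norm_num) hK
  interval_cases K <;> norm_num at *
  all_goals exact absurd hKp (by rw [isPrimePow_nat_iff_bounded]; decide)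

variable {G : Type u} [Group G] [Finite G]

/-- At most four prime divisors, and the groups with four. -/
theorem four_primes (hcit : CITIsoList.{u}) (hpp : IsPP G) :
    (Nat.card G).primeFactors.card ≤ 4 ∧
    ((Nat.card G).primeFactors.card = 4 →
      (∃ (F : Type) (_ : Field F) (_ : Fintype F), Fintype.card F = 4 ∧
        Nonempty (G ≃* Matrix.ProjectiveSpecialLinearGroup (Fin 3) F)) ∨
      (∃ (N : Subgroup G) (_ : N.Normal), IsPGroup 2 ↥N ∧
        ∃ (F : Type) (_ : Field F) (_ : Fintype F),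
          (Fintype.card F = 8 ∧ Nonempty (G ⧸ N ≃* ↥(Cfsg.Lie.Sz F 4))) ∨
          (Fintype.card F = 32 ∧ Nonempty (G ⧸ N ≃* ↥(Cfsg.Lie.Sz F 8))))) := by
  classical
  by_cases hs : Group.IsSolvable G
  · have := card_primeFactors_le_two hpp (G := G)
    exact ⟨by omega, fun h => by omega⟩
  haveI : Fact (Nat.Prime 2) := ⟨Nat.prime_two⟩
  set R := Cfsg.solvableRadical G with hRdef
  haveI hRn : R.Normal := CfsgLib.Layer.solvableRadical_normal G
  have hRs : Group.IsSolvable R := CfsgLib.Layer.solvableRadical_isSolvable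
  obtain ⟨⟨p, hp, hRp⟩, ⟨M, hMn, hMs, hMab, hmin⟩, -⟩ :=
    Cfsg.Agent.S3992.result hs hpp R hRs fun N hn hs' => CfsgLib.Layer.le_solvableRadical hn hs'
  haveI := hMn
  haveI := hMs
  haveI := Fact.mk hp
  have hppQ : IsPP (G ⧸ R) := hpp.quotient R
  have hMpp : IsPP M := fun x hx => by
    have := hppQ (x : G ⧸ R) (fun e => hx (Subtype.ext e))
    rwa [Subgroup.orderOf_coe] at this
  -- the radical is a 2-group
  have hR2 : p ≠ 2 → R = ⊥ := fun hp2 => by
    obtain ⟨x, y, hx, hy, hxy, hne⟩ := exists_two_commuting hMab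
    refine eq_bot_of_rank_two hpp (q := 2) hRp hp2 (x := (x : G ⧸ R)) (y := (y : G ⧸ R))
      ((Subgroup.orderOf_coe x).trans hx) ((Subgroup.orderOf_coe y).trans hy)
      (hxy.map M.subtype) ?_
    intro hmem
    obtain ⟨i, hi⟩ := Subgroup.mem_zpowers_iff.1 hmem
    rw [← zpow_mod_orderOf, Subgroup.orderOf_coe, hy] at hi
    rcases Int.emod_two_eq_zero_or_one i with e | e <;> rw [Nat.cast_ofNat, e] at hi
    · rw [zpow_zero] at hi
      rw [← Subgroup.orderOf_coe, ← hi, orderOf_one] at hx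
      norm_num at hx
    · rw [zpow_one] at hi
      exact hne (Subtype.ext hi.symm)
  have hR2' : IsPGroup 2 R := by
    by_cases hp2 : p = 2
    · exact hp2 ▸ hRp
    · rw [hR2 hp2]; exact IsPGroup.of_bot
  have hdvd : ∀ r : ℕ, r.Prime → r ∣ Nat.card G → r ∣ Nat.card M := by
    intro r hr hd
    rw [R.card_eq_card_quotient_mul_card_subgroup] at hd
    rcases hr.dvd_mul.1 hd with h | h
    · exact prime_dvd_simple hppQ hMab hr h
    · obtain ⟨j, hj⟩ := IsPGroup.iff_card.1 hR2'
      rw [hj] at h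
      rw [(Nat.prime_dvd_prime_iff_eq hr Nat.prime_two).1 (hr.dvd_of_dvd_pow h)]
      obtain ⟨x, -, hx, -⟩ := exists_two_commuting hMab
      exact hx ▸ orderOf_dvd_natCard x
  have hsub : (Nat.card G).primeFactors ⊆ (Nat.card M).primeFactors := fun r hr => by
    rw [Nat.mem_primeFactors] at hr ⊢
    exact ⟨hr.1, hdvd r hr.1 hr.2.1, Nat.card_pos.ne'⟩
  have hle := Finset.card_le_card hsub
  rcases simpleList_cases (simple_list hcit hMab hMpp) with h3 | ⟨h4, hcase⟩
  · exact ⟨by omega, fun h => by omega⟩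
  refine ⟨by omega, fun _ => ?_⟩
  rcases hcase with ⟨F, iF, fF, hF, ⟨e⟩, hc⟩ | ⟨F, iF, fF, hc⟩
  · haveI : Fact (Nat.Prime 7) := ⟨by norm_num⟩
    haveI : Fact (Nat.Prime 5) := ⟨by norm_num⟩
    have htop := eq_top_of_counts hppQ (M := M) (r := 7) (s := 5) (m := 2880) (by rw [hc])
      (by norm_num) (by rw [hc]; norm_num) (by rw [hc]; norm_num) (by norm_num) (by norm_num)
      (by norm_num) hk_seven
    letI := iF
    letI := fF
    let eQ : (G ⧸ R) ≃* ProjectiveSpecialLinearGroup (Fin 3) F :=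
      (Subgroup.topEquiv.symm.trans (MulEquiv.subgroupCongr htop.symm)).trans e
    have hR : R = ⊥ := by
      by_cases hp3 : p = 3
      · exact hR2 (by omega)
      haveI : Fact (Nat.Prime 3) := ⟨Nat.prime_three⟩
      obtain ⟨x, y, hx, hy, hxy, hn⟩ := psl34_commuting_threes hF
      refine eq_bot_of_rank_two hpp (q := 3) hRp hp3 (x := eQ.symm x) (y := eQ.symm y)
        (by rw [MulEquiv.orderOf_eq, hx]) (by rw [MulEquiv.orderOf_eq, hy])
        (hxy.map eQ.symm.toMonoidHom) ?_
      intro hmem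
      obtain ⟨i, hi⟩ := Subgroup.mem_zpowers_iff.1 hmem
      refine hn (Subgroup.mem_zpowers_iff.2 ⟨i, eQ.symm.injective ?_⟩)
      rw [map_zpow, hi]
    exact Or.inl ⟨F, iF, fF, hF, ⟨((QuotientGroup.quotientBot).symm.trans
      (QuotientGroup.quotientMulEquivOfEq hR.symm)).trans eQ⟩⟩
  · letI := iF
    letI := fF
    refine Or.inr ⟨R, hRn, hR2', F, iF, fF, ?_⟩
    rcases hc with ⟨hF, ⟨e⟩, hc⟩ | ⟨hF, ⟨e⟩, hc⟩
    · haveI : Fact (Nat.Prime 13) := ⟨by norm_num⟩
      haveI : Fact (Nat.Prime 7) := ⟨by norm_num⟩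
      have htop := eq_top_of_counts hppQ (M := M) (r := 13) (s := 7) (m := 2240) (by rw [hc])
        (by norm_num) (by rw [hc]; norm_num) (by rw [hc]; norm_num) (by norm_num) (by norm_num)
        (by norm_num) hk_thirteen
      exact Or.inl ⟨hF, ⟨(Subgroup.topEquiv.symm.trans (MulEquiv.subgroupCongr htop.symm)).trans e⟩⟩
    · haveI : Fact (Nat.Prime 31) := ⟨by norm_num⟩
      haveI : Fact (Nat.Prime 41) := ⟨by norm_num⟩
      have htop := eq_top_of_counts hppQ (M := M) (r := 31) (s := 41) (m := 1049600) (by rw [hc])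
        (by norm_num) (by rw [hc]; norm_num) (by rw [hc]; norm_num) (by norm_num) (by norm_num)
        (by norm_num) hk_thirtyone
      exact Or.inr ⟨hF, ⟨(Subgroup.topEquiv.symm.trans (MulEquiv.subgroupCongr htop.symm)).trans e⟩⟩

end CfsgLib.EPPO
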